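import Cfsg.Agent.Lib.TwoRank.OrthRank
import Cfsg.Agent.Lib.LinearGroups.OrthForms
import Cfsg.Agent.Lib.Spinor.Plus
import Cfsg.Agent.Lib.Forms.OddInvol

/-!
Orthogonal bases and 2-ranks for the standard forms.
-/

set_option autoImplicit false

namespace Cfsg.Agent.TwoRank

open Cfsg.Agent.FormsLib

variable {F : Type*} [Field F] [Fintype F]

section Generic

variable {ι : Type} [Fintype ι] [DecidableEq ι] {Q : QuadraticForm F (ι → F)}
  (h2 : (2 : F) ≠ 0) (hQ : (QuadraticMap.polarBilin Q).Nondegenerate)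

include h2 hQ

theorem rank_of_odd {κ : Type*} [Fintype κ] [Nonempty κ] {v : κ → ι → F} (hv : IsOrth Q v)
    (hodd : Odd (Fintype.card ι)) :
    Cfsg.PRankAtLeast 2 (Fintype.card ι - 1) (Cfsg.Omega F ⇑Q) ∧
      Cfsg.PRankLE 2 (Fintype.card ι - 1) (Cfsg.Omega F ⇑Q) := by
  obtain ⟨c, hcd⟩ : ∃ c, c = ∏ i, Q (v i) := ⟨_, rfl⟩
  have hc : c ≠ 0 := hcd ▸ Finset.prod_ne_zero_iff.2 fun i _ => hv.ne i
  obtain ⟨w, hw, hall⟩ := exists_same h2 hc _ v hv le_rfl (by
    rw [Finset.prod_congr rfl fun i _ => cls_mul hc (hv.ne i), Finset.prod_mul_distrib, Finset.prod_const,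
      Finset.card_univ, ← cls_prod _ (fun i _ => hv.ne i), ← hcd, hv.card h2]
    obtain ⟨k, hk⟩ := hodd
    rw [hk, pow_succ, pow_mul, Int.units_sq, one_pow, one_mul]
    exact Int.units_mul_self _)
  exact rank_square h2 hQ hw hc hall

theorem rank_of_even {κ : Type*} [Fintype κ] [Nonempty κ] {v : κ → ι → F} (hv : IsOrth Q v)
    (heven : Even (Fintype.card ι)) :
    (cls (∏ i, Q (v i)) = 1 → Cfsg.PRankAtLeast 2 (Fintype.card ι - 1) (Cfsg.Omega F ⇑Q) ∧
      Cfsg.PRankLE 2 (Fintype.card ι - 1) (Cfsg.Omega F ⇑Q)) ∧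
    (cls (∏ i, Q (v i)) ≠ 1 → Cfsg.PRankAtLeast 2 (Fintype.card ι - 2) (Cfsg.Omega F ⇑Q) ∧
      Cfsg.PRankLE 2 (Fintype.card ι - 2) (Cfsg.Omega F ⇑Q)) := by
  refine ⟨fun h => ?_, fun h => rank_nonsquare h2 hQ hv heven h⟩
  obtain ⟨w, hw, hall⟩ := exists_same h2 one_ne_zero _ v hv le_rfl (by
    rw [Finset.prod_congr rfl fun i _ => congrArg cls (one_mul (Q (v i))),
      ← cls_prod _ (fun i _ => hv.ne i), h])
  exact rank_square h2 hQ hw one_ne_zero hall

end Generic

/-- The diagonalising family of the hyperbolic form. -/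
def plusW (m : ℕ) : Fin m ⊕ Fin m → Fin m ⊕ Fin m → F :=
  Sum.elim (fun i => Pi.single (Sum.inl i) 1 + Pi.single (Sum.inr i) 1)
    (fun i => Pi.single (Sum.inl i) 1 - Pi.single (Sum.inr i) 1)

/-- Its norms. -/
def plusD (m : ℕ) : Fin m ⊕ Fin m → F := Sum.elim (fun _ => 1) (fun _ => -1)

omit [Fintype F] in
theorem plusW_polar (m : ℕ) (s t : Fin m ⊕ Fin m) :
    QuadraticMap.polar (OrthOrder.qPlus m F) (plusW m s) (plusW m t) =
      if s = t then 2 * plusD m s else 0 := by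
  have hsum : ∀ (i k : Fin m) (a b : F),
      (∑ x, (if x = i then a else 0) * (if x = k then b else 0)) = if i = k then a * b else 0 := by
    intro i k a b
    simp [eq_comm]
  rcases s with i | i <;> rcases t with k | k <;> rw [Spinor.polar_qPlus] <;>
    simp [plusW, plusD, Pi.single_apply, Finset.sum_add_distrib, hsum] <;>
    (try split_ifs) <;> (try ring) <;> (try simp_all)

omit [Fintype F] in
theorem plusW_span (h2 : (2 : F) ≠ 0) (m : ℕ) : ⊤ ≤ Submodule.span F (Set.range (plusW (F := F) m)) := by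
  intro x _
  have e : x = ∑ i, (((2⁻¹ : F) * (x (Sum.inl i) + x (Sum.inr i))) • plusW m (Sum.inl i) +
      ((2⁻¹ : F) * (x (Sum.inl i) - x (Sum.inr i))) • plusW m (Sum.inr i)) := by
    funext j
    rcases j with j | j <;> simp [plusW, Pi.single_apply, Finset.sum_add_distrib] <;> field_simp <;> ring
  rw [e]
  exact Submodule.sum_mem _ fun i _ => add_mem (Submodule.smul_mem _ _ (Submodule.subset_span ⟨_, rfl⟩))
    (Submodule.smul_mem _ _ (Submodule.subset_span ⟨_, rfl⟩))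

omit [Fintype F] in
theorem plusW_val (h2 : (2 : F) ≠ 0) (m : ℕ) (s : Fin m ⊕ Fin m) :
    OrthOrder.qPlus m F (plusW m s) = plusD m s := by
  have h := plusW_polar (F := F) m s s
  rw [polar_self', if_pos rfl] at h
  exact mul_left_cancel₀ h2 h

omit [Fintype F] in
theorem plusD_ne (m : ℕ) (s : Fin m ⊕ Fin m) : (plusD m s : F) ≠ 0 := by
  rcases s with s | s <;> simp [plusD]

omit [Fintype F] in
theorem plus_orth (h2 : (2 : F) ≠ 0) (m : ℕ) : IsOrth (OrthOrder.qPlus m F) (plusW m) :=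
  ⟨fun i j hij => by rw [plusW_polar, if_neg hij], fun i => by rw [plusW_val h2]; exact plusD_ne m i,
    plusW_span h2 m⟩

omit [Fintype F] in
theorem plus_disc (h2 : (2 : F) ≠ 0) (m : ℕ) :
    ∏ s, OrthOrder.qPlus m F (plusW m s) = (-1) ^ m := by
  simp [plusW_val h2, Fintype.prod_sum_type, plusD]

/-- The diagonalising family of the elliptic form. -/
noncomputable def minusW (k : ℕ) (a : F) : (Fin k ⊕ Fin k) ⊕ Fin 2 → ((Fin k ⊕ Fin k) ⊕ Fin 2 → F) :=
  Sum.elim (fun s => Sum.elim (plusW k s) 0)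
    (fun z => Sum.elim 0 (if z = 0 then ![1, 0] else ![-(a / 2), 1]))

theorem exists_minus (h2 : (2 : F) ≠ 0) (k : ℕ) (a b : F)
    (hab : ∀ z₁ z₂ : F, z₁ ^ 2 + a * z₁ * z₂ + b * z₂ ^ 2 = 0 → z₁ = 0 ∧ z₂ = 0) :
    ∃ (Q : QuadraticForm F ((Fin k ⊕ Fin k) ⊕ Fin 2 → F)), ⇑Q = Cfsg.quadFormMinus k F a b ∧
      (QuadraticMap.polarBilin Q).Nondegenerate ∧ IsOrth Q (minusW k a) ∧
      cls (∏ s, Q (minusW k a s)) = - cls ((-1 : F) ^ (k + 1)) := by
  classical
  obtain ⟨Q, hQ, hnd⟩ := OrthForms.exists_qMinus k a b hab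
  have hpol : ∀ u w, QuadraticMap.polar Q u w =
      QuadraticMap.polar (OrthOrder.qPlus k F) (fun s => u (Sum.inl s)) (fun s => w (Sum.inl s)) +
        (2 * (u (Sum.inr 0) * w (Sum.inr 0)) + a * (u (Sum.inr 0) * w (Sum.inr 1) + u (Sum.inr 1) * w (Sum.inr 0)) +
          2 * b * (u (Sum.inr 1) * w (Sum.inr 1))) := by
    intro u w
    rw [Spinor.polar_qPlus]
    simp only [QuadraticMap.polar, hQ, Cfsg.quadFormMinus, Pi.add_apply, add_mul, mul_add,
      Finset.sum_add_distrib]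
    ring
  have hval : ∀ s, Q (minusW k a s) = Sum.elim (plusD k) ![1, b - a ^ 2 / 4] s := by
    intro s
    refine mul_left_cancel₀ h2 ?_
    rw [← polar_self' Q, hpol]
    rcases s with s | z
    · simp [minusW, plusW_val h2]
    · have h4 : (4 : F) ≠ 0 := by
        rw [show (4 : F) = 2 * 2 by norm_num]; exact mul_ne_zero h2 h2
      fin_cases z <;> simp [minusW, Spinor.polar_qPlus, ← Pi.zero_def] <;> field_simp <;> ring
  have hns : ¬ IsSquare (-(b - a ^ 2 / 4)) := by
    rintro ⟨r, hr⟩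
    have := hab (r - a / 2) 1 (by
      have h4 : (4 : F) ≠ 0 := by
        rw [show (4 : F) = 2 * 2 by norm_num]; exact mul_ne_zero h2 h2
      field_simp at hr ⊢
      linear_combination -hr)
    exact one_ne_zero this.2
  have hd0 : b - a ^ 2 / 4 ≠ 0 := fun h => hns (by rw [h, neg_zero]; exact IsSquare.zero)
  refine ⟨Q, hQ, hnd, ⟨fun i j hij => ?_, fun i => ?_, ?_⟩, ?_⟩
  · rw [hpol]
    rcases i with i | i <;> rcases j with j | j
    · simp [minusW, plusW_polar, show i ≠ j from fun e => hij (by rw [e])]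
    · simp [minusW, Spinor.polar_qPlus]
    · simp [minusW, Spinor.polar_qPlus]
    · fin_cases i <;> fin_cases j <;>
        first
        | exact absurd rfl hij
        | (simp [minusW, Spinor.polar_qPlus, ← Pi.zero_def]; field_simp; ring)
  · rw [hval]
    rcases i with i | i
    · exact plusD_ne k i
    · fin_cases i <;> simp [hd0]
  · intro x _
    have e : x = Sum.elim (fun s => x (Sum.inl s)) 0 + ((x (Sum.inr 0) + a / 2 * x (Sum.inr 1)) •
        minusW k a (Sum.inr 0) + x (Sum.inr 1) • minusW k a (Sum.inr 1)) := by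
      funext j
      rcases j with j | j
      · simp [minusW]
      · fin_cases j <;> simp [minusW] <;> ring
    rw [e]
    refine add_mem ?_ (add_mem (Submodule.smul_mem _ _ (Submodule.subset_span ⟨_, rfl⟩))
      (Submodule.smul_mem _ _ (Submodule.subset_span ⟨_, rfl⟩)))
    let L : (Fin k ⊕ Fin k → F) →ₗ[F] ((Fin k ⊕ Fin k) ⊕ Fin 2 → F) :=
      { toFun := fun y => Sum.elim y 0
        map_add' := fun y y' => by funext j; rcases j with j | j <;> simp
        map_smul' := fun c y => by funext j; rcases j with j | j <;> simp }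
    have h1 : L (fun s => x (Sum.inl s)) ∈ (Submodule.span F (Set.range (plusW k))).map L :=
      Submodule.mem_map_of_mem (plusW_span h2 k Submodule.mem_top)
    rw [Submodule.map_span] at h1
    refine Submodule.span_mono ?_ h1
    rintro _ ⟨_, ⟨s, rfl⟩, rfl⟩
    exact ⟨Sum.inl s, rfl⟩
  · simp only [hval, Fintype.prod_sum_type, Fin.prod_univ_two, plusD, Sum.elim_inl, Sum.elim_inr,
      Finset.prod_const_one, Finset.prod_const, Finset.card_univ, Fintype.card_fin, one_mul,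
      Matrix.cons_val_zero, Matrix.cons_val_one]
    rw [pow_succ (-1 : F) k, show (-1 : F) ^ k * (b - a ^ 2 / 4) = ((-1) ^ k * -1) * -(b - a ^ 2 / 4) by ring,
      cls_mul (by simp) (neg_ne_zero.2 hd0),
      (Int.units_eq_one_or (cls (-(b - a ^ 2 / 4)))).resolve_left (fun h => hns (cls_eq_one.1 h))]
    simp

theorem cls_neg_one_pow {q : ℕ} (hF : Fintype.card F = q) (hodd : Odd q) (n : ℕ) :
    (q ^ n % 4 = 1 → cls ((-1 : F) ^ n) = 1) ∧ (q ^ n % 4 = 3 → cls ((-1 : F) ^ n) = -1) := by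
  rw [Nat.pow_mod]
  rcases Nat.even_or_odd n with he | ho
  · rw [he.neg_one_pow, cls_one]
    refine ⟨fun _ => rfl, fun h => ?_⟩
    obtain ⟨k, rfl⟩ := he
    rcases hodd with ⟨r, rfl⟩
    rw [← two_mul, pow_mul] at h
    have : (2 * r + 1) % 4 = 1 ∨ (2 * r + 1) % 4 = 3 := by omega
    rcases this with e | e <;> rw [e] at h <;> norm_num [Nat.pow_mod] at h
  · rw [ho.neg_one_pow]
    obtain ⟨k, rfl⟩ := ho
    have hq4 : q % 4 = 1 ∨ q % 4 = 3 := by obtain ⟨r, rfl⟩ := hodd; omega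
    have key : cls (-1 : F) = if q % 4 = 3 then -1 else 1 := by
      simp only [cls, FiniteField.isSquare_neg_one_iff, hF]
      rcases hq4 with e | e <;> simp [e]
    rw [key]
    rcases hq4 with e | e <;> rw [e] <;> simp [pow_succ, pow_mul, Nat.mul_mod, Nat.pow_mod]

end Cfsg.Agent.TwoRank
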