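import Mathlib

/-!
Commuting involutory linear maps have a common eigenbasis, compatible with a non-degenerate form.
-/

set_option autoImplicit false

namespace Cfsg.Agent.TwoRank

variable {F V : Type*} [Field F] [AddCommGroup V] [Module F V] [FiniteDimensional F V]

/-- The common eigenvectors with eigenvalues `±1`. -/
def eigVecs (S : Set (V →ₗ[F] V)) : Set V := {v | ∀ a ∈ S, a v = v ∨ a v = -v}

omit [FiniteDimensional F V] in
/-- Splitting along an involution. -/
theorem split_mem (h2 : (2 : F) ≠ 0) {a : V →ₗ[F] V} (ha : ∀ v, a (a v) = v) (v : V) :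
    v = (2⁻¹ : F) • (v + a v) + (2⁻¹ : F) • (v - a v) ∧
      a ((2⁻¹ : F) • (v + a v)) = (2⁻¹ : F) • (v + a v) ∧
      a ((2⁻¹ : F) • (v - a v)) = -((2⁻¹ : F) • (v - a v)) := by
  refine ⟨?_, ?_, ?_⟩
  · rw [← smul_add, add_add_sub_cancel, ← two_smul F v, smul_smul, inv_mul_cancel₀ h2, one_smul]
  · rw [map_smul, map_add, ha, add_comm]
  · rw [map_smul, map_sub, ha, ← smul_neg, neg_sub]

/-- Common eigenvectors span every invariant subspace. -/
theorem span_eig (h2 : (2 : F) ≠ 0) (S : Set (V →ₗ[F] V)) (hinv : ∀ a ∈ S, ∀ v, a (a v) = v)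
    (hcomm : ∀ a ∈ S, ∀ b ∈ S, ∀ v, a (b v) = b (a v)) :
    ∀ (d : ℕ) (W : Submodule F V), Module.finrank F W ≤ d → (∀ a ∈ S, ∀ v ∈ W, a v ∈ W) →
      W ≤ Submodule.span F (eigVecs S ∩ (W : Set V)) := by
  intro d
  induction d with
  | zero =>
    intro W hW _ v hv
    rw [Submodule.finrank_eq_zero.1 (Nat.le_zero.1 hW), Submodule.mem_bot] at hv
    rw [hv]
    exact zero_mem _
  | succ d ih =>
    intro W hW hS
    by_cases hsc : ∀ a ∈ S, (∀ v ∈ W, a v = v) ∨ ∀ v ∈ W, a v = -v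
    · exact fun v hv => Submodule.subset_span
        ⟨fun a ha => (hsc a ha).imp (fun h => h v hv) (fun h => h v hv), hv⟩
    push Not at hsc
    obtain ⟨a, ha, ⟨x, hx, hx'⟩, ⟨y, hy, hy'⟩⟩ := hsc
    obtain ⟨P, hP⟩ : ∃ P : Submodule F V, P = W ⊓ LinearMap.ker (a - LinearMap.id) := ⟨_, rfl⟩
    obtain ⟨M, hM⟩ : ∃ M : Submodule F V, M = W ⊓ LinearMap.ker (a + LinearMap.id) := ⟨_, rfl⟩
    have mP : ∀ v, v ∈ P ↔ v ∈ W ∧ a v = v := fun v => by simp [hP, sub_eq_zero]
    have mM : ∀ v, v ∈ M ↔ v ∈ W ∧ a v = -v := fun v => by simp [hM, eq_neg_iff_add_eq_zero]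
    have lt : ∀ U : Submodule F V, U ≤ W → (∃ z ∈ W, z ∉ U) → Module.finrank F U ≤ d := by
      intro U hU hz
      have := Submodule.finrank_lt_finrank_of_lt (lt_of_le_of_ne hU fun e => by
        obtain ⟨z, hz, hz'⟩ := hz; exact hz' (e ▸ hz))
      omega
    have hPd := ih P (lt P (hP ▸ inf_le_left) ⟨x, hx, fun h => hx' ((mP x).1 h).2⟩) fun b hb v hv => by
      obtain ⟨h1, h3⟩ := (mP v).1 hv
      exact (mP _).2 ⟨hS b hb v h1, by rw [hcomm a ha b hb, h3]⟩
    have hMd := ih M (lt M (hM ▸ inf_le_left) ⟨y, hy, fun h => hy' ((mM y).1 h).2⟩) fun b hb v hv => by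
      obtain ⟨h1, h3⟩ := (mM v).1 hv
      exact (mM _).2 ⟨hS b hb v h1, by rw [hcomm a ha b hb, h3, map_neg]⟩
    intro v hv
    obtain ⟨e, e1, e2⟩ := split_mem h2 (hinv a ha) v
    rw [e]
    refine add_mem (Submodule.span_mono (Set.inter_subset_inter_right _ ?_) (hPd ((mP _).2 ⟨?_, e1⟩)))
      (Submodule.span_mono (Set.inter_subset_inter_right _ ?_) (hMd ((mM _).2 ⟨?_, e2⟩)))
    · rw [hP]; exact fun z hz => hz.1
    · exact W.smul_mem _ (W.add_mem hv (hS a ha v hv))
    · rw [hM]; exact fun z hz => hz.1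
    · exact W.smul_mem _ (W.sub_mem hv (hS a ha v hv))

/-- A common eigenbasis. -/
theorem exists_eigenbasis (h2 : (2 : F) ≠ 0) (S : Set (V →ₗ[F] V)) (hinv : ∀ a ∈ S, ∀ v, a (a v) = v)
    (hcomm : ∀ a ∈ S, ∀ b ∈ S, ∀ v, a (b v) = b (a v)) :
    ∃ b : Module.Basis (Fin (Module.finrank F V)) F V, ∀ i, b i ∈ eigVecs S := by
  classical
  have htop : ⊤ ≤ Submodule.span F (eigVecs S) :=
    (span_eig h2 S hinv hcomm _ ⊤ le_rfl fun _ _ _ _ => Submodule.mem_top).trans
      (Submodule.span_mono Set.inter_subset_left)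
  let b₀ := Module.Basis.ofSpan htop
  haveI : Fintype (LinearIndepOn.extend (linearIndepOn_empty F (id : V → V))
      (Set.empty_subset (eigVecs S))) := FiniteDimensional.fintypeBasisIndex b₀
  refine ⟨b₀.reindex (Fintype.equivFinOfCardEq (Module.finrank_eq_card_basis b₀).symm), fun i => ?_⟩
  rw [Module.Basis.reindex_apply]
  exact Module.Basis.ofSpan_subset htop ⟨_, rfl⟩

/-- The sign of a common eigenvector, as a function of the map. -/
theorem exists_signs (h2 : (2 : F) ≠ 0) {G : Type*} [Group G] (ρ : G →* (V ≃ₗ[F] V)) (A : Subgroup G)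
    (hA : IsMulCommutative A) (h : ∀ a ∈ A, a ^ 2 = 1) :
    ∃ (b : Module.Basis (Fin (Module.finrank F V)) F V) (ε : A →* (Fin (Module.finrank F V) → ℤˣ)),
      ∀ (a : A) i, ρ a.1 (b i) = ((ε a i : ℤ) : F) • b i := by
  classical
  obtain ⟨b, hb⟩ := exists_eigenbasis h2 (Set.range fun a : A => (ρ a.1 : V →ₗ[F] V))
    (by
      rintro _ ⟨a, rfl⟩ v
      show ρ a.1 (ρ a.1 v) = v
      rw [← LinearEquiv.mul_apply, ← map_mul, ← pow_two, h a.1 a.2, map_one]
      rfl)
    (by
      rintro _ ⟨a, rfl⟩ _ ⟨c, rfl⟩ v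
      show ρ a.1 (ρ c.1 v) = ρ c.1 (ρ a.1 v)
      rw [← LinearEquiv.mul_apply, ← LinearEquiv.mul_apply, ← map_mul, ← map_mul,
        show a.1 * c.1 = c.1 * a.1 from congrArg Subtype.val (hA.is_comm.comm a c)])
  let f : A → Fin (Module.finrank F V) → ℤˣ := fun a i => if ρ a.1 (b i) = b i then 1 else -1
  have hf : ∀ (a : A) i, ρ a.1 (b i) = ((f a i : ℤ) : F) • b i := by
    intro a i
    rcases hb i _ ⟨a, rfl⟩ with e | e <;> simp only [LinearEquiv.coe_coe] at e
    · simp [f, e]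
    · have hne : ρ a.1 (b i) ≠ b i := fun e' => by
        rw [e] at e'
        have : (2 : F) • b i = 0 := by rw [two_smul]; nth_rewrite 2 [← e']; exact add_neg_cancel _
        exact b.ne_zero i ((smul_eq_zero.1 this).resolve_left h2)
      simp only [f, if_neg hne]
      rw [e]
      simp
  have inj : ∀ {u w : ℤˣ} {i}, ((u : ℤ) : F) • b i = ((w : ℤ) : F) • b i → u = w := by
    intro u w i e
    have e' := smul_left_injective F (b.ne_zero i) e
    rcases Int.units_eq_one_or u with rfl | rfl <;> rcases Int.units_eq_one_or w with rfl | rfl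
    · rfl
    · norm_num at e'; exact absurd (show (2 : F) = 0 by linear_combination e') h2
    · norm_num at e'; exact absurd (show (2 : F) = 0 by linear_combination -e') h2
    · rfl
  refine ⟨b, { toFun := f, map_one' := ?_, map_mul' := ?_ }, hf⟩
  · funext i
    refine inj (i := i) ?_
    rw [← hf, Subgroup.coe_one, map_one]
    simp
  · intro a c
    funext i
    refine inj (i := i) ?_
    rw [← hf, Subgroup.coe_mul, map_mul, LinearEquiv.mul_apply, hf c, map_smul, hf a, smul_smul,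
      Pi.mul_apply, Units.val_mul, Int.cast_mul, mul_comm]

/-- Signs determine the element of a faithful representation. -/
theorem signs_injective {G : Type*} [Group G] {ρ : G →* (V ≃ₗ[F] V)} (hρ : Function.Injective ρ)
    {A : Subgroup G} {ι : Type*} {b : Module.Basis ι F V} {ε : A →* (ι → ℤˣ)}
    (h : ∀ (a : A) i, ρ a.1 (b i) = ((ε a i : ℤ) : F) • b i) : Function.Injective ε := by
  intro a c e
  refine Subtype.ext (hρ (LinearEquiv.toLinearMap_injective (b.ext fun i => ?_)))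
  show ρ a.1 (b i) = ρ c.1 (b i)
  rw [h, h, e]

/-- The kernel of a surjection to `ℤˣ` has index two. -/
theorem card_le_ker {X : Type*} [Group X] [Finite X] {K : Type*} [Group K] (χ : X →* K)
    {A : Type*} [Group A] (ε : A →* X) (hε : Function.Injective ε) (hχ : ∀ a, χ (ε a) = 1) :
    Nat.card A * Nat.card χ.range ≤ Nat.card X := by
  rw [← Subgroup.card_mul_index χ.ker, Subgroup.index_ker]
  exact Nat.mul_le_mul_right _ (Nat.card_le_card_of_injective (fun a => (⟨ε a, hχ a⟩ : χ.ker))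
    fun a c e => hε (congrArg Subtype.val e))

theorem card_signs (ι : Type*) [Fintype ι] : Nat.card (ι → ℤˣ) = 2 ^ Fintype.card ι := by
  classical
  rw [Nat.card_eq_fintype_card, Fintype.card_fun, Fintype.card_units_int]

end Cfsg.Agent.TwoRank
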