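/-
Normal 2-rank of Sylow 2-subgroups of symplectic and general linear groups in odd characteristic.
-/
import Cfsg.Prelude.Def_Transfer
import Cfsg.Agent.Lib.FGS.SylowTwoClassical
import Cfsg.Agent.Lib.TwoRank.Basic

set_option autoImplicit false

namespace Cfsg.Agent.TwoRankNormal

open Matrix Cfsg.Agent.FGS

section Abstract

theorem range_le_normalizer {G K L : Type*} [Group G] [Group K] [Group L] (f : K →* G) (g : L →* G)
    (h : ∀ a b, ∃ b', f a * g b = g b' * f a) : f.range ≤ Subgroup.normalizer (g.range : Set G) := by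
  rintro _ ⟨a, rfl⟩
  rw [Subgroup.mem_normalizer_iff]
  refine fun x => ⟨?_, fun hx => ?_⟩
  · rintro ⟨b, rfl⟩
    obtain ⟨b', e⟩ := h a b
    exact ⟨b', by rw [e, mul_inv_cancel_right]⟩
  · obtain ⟨b, e⟩ := hx
    obtain ⟨b', e'⟩ := h a⁻¹ b
    refine ⟨b', ?_⟩
    rw [← mul_inv_cancel_right (g b') (f a⁻¹), ← e', map_inv, inv_inv, e]
    group

/-- A normal elementary abelian subgroup of a Sylow subgroup, from a monomial model. -/
theorem exists_normal {G N S X : Type*} [Group G] [Finite G] [Group N] [Group S] [CommGroup X]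
    (i : N →* G) (j : S →* G) (hnorm : ∀ s n, ∃ n', j s * i n = i n' * j s)
    (hinj : ∀ n s, i n * j s = 1 → n = 1 ∧ s = 1)
    (hcard : Nat.card N * Nat.card S = 2 ^ padicValNat 2 (Nat.card G))
    (φ : X →* G) (hφ : Function.Injective φ) (hX : ∀ x : X, x ^ 2 = 1)
    (hφi : ∀ n x, ∃ x', i n * φ x = φ x' * i n) (hφj : ∀ s x, ∃ x', j s * φ x = φ x' * j s)
    (P : Sylow 2 G) :
    ∃ A : Subgroup (P : Subgroup G), A.Normal ∧ Cfsg.IsElementaryAbelian 2 A ∧ Nat.card X ≤ Nat.card A := by
  have : Fact (Nat.Prime 2) := ⟨Nat.prime_two⟩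
  have hle : j.range ≤ Subgroup.normalizer (i.range : Set G) := range_le_normalizer j i hnorm
  set H := i.range ⊔ j.range with hH
  have hbij : Function.Bijective (fun p : N × S => (⟨i p.1 * j p.2,
      mul_mem (Subgroup.mem_sup_left ⟨p.1, rfl⟩) (Subgroup.mem_sup_right ⟨p.2, rfl⟩)⟩ : H)) := by
    refine ⟨fun ⟨n, s⟩ ⟨n', s'⟩ e => ?_, fun ⟨x, hx⟩ => ?_⟩
    · have e1 : i n * j s = i n' * j s' := congrArg Subtype.val e
      have h1 : i (n'⁻¹ * n) * j (s * s'⁻¹) = 1 := by
        rw [map_mul, map_mul, map_inv, map_inv,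
          show (i n')⁻¹ * i n * (j s * (j s')⁻¹) = (i n')⁻¹ * (i n * j s) * (j s')⁻¹ by group, e1]
        group
      obtain ⟨a, b⟩ := hinj _ _ h1
      exact Prod.ext (inv_mul_eq_one.1 a).symm (mul_inv_eq_one.1 b)
    · rw [← SetLike.mem_coe, hH, Subgroup.coe_mul_of_right_le_normalizer_left _ _ hle] at hx
      obtain ⟨_, ⟨n, rfl⟩, _, ⟨s, rfl⟩, e⟩ := hx
      exact ⟨(n, s), Subtype.ext e⟩
  have hHcard : Nat.card H = 2 ^ padicValNat 2 (Nat.card G) := by
    rw [← Nat.card_eq_of_bijective _ hbij, Nat.card_prod, hcard]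
  have hHnorm : H ≤ Subgroup.normalizer (φ.range : Set G) := sup_le (range_le_normalizer i φ hφi) (range_le_normalizer j φ hφj)
  have hEp : IsPGroup 2 φ.range := by
    rintro ⟨_, x, rfl⟩
    exact ⟨1, Subtype.ext (by rw [pow_one, Subgroup.coe_pow, Subgroup.coe_one, ← map_pow, hX, map_one])⟩
  obtain ⟨T, hT⟩ := (IsPGroup.to_sup_of_normal_left' hEp (IsPGroup.of_card hHcard) hHnorm).exists_le_sylow
  have hTH : (T : Subgroup G) = H := by
    refine (Subgroup.eq_of_le_of_card_ge (le_sup_right.trans hT) ?_).symm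
    rw [hHcard, T.card_eq_multiplicity, Nat.factorization_def _ Nat.prime_two]
  obtain ⟨g, hg⟩ := MulAction.exists_smul_eq G T P
  have hg' : (P : Subgroup G) = (T : Subgroup G).map (MulAut.conj g).toMonoidHom := by
    rw [← hg]; rfl
  let E' : Subgroup G := φ.range.map (MulAut.conj g).toMonoidHom
  have hE'P : E' ≤ (P : Subgroup G) := by
    rw [hg']; exact Subgroup.map_mono (le_sup_left.trans hT)
  refine ⟨E'.subgroupOf P, ⟨?_⟩, ⟨⟨⟨?_⟩⟩, ?_⟩, ?_⟩
  · intro a ha x
    rw [Subgroup.mem_subgroupOf] at ha ⊢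
    obtain ⟨e, he, hea⟩ := ha
    obtain ⟨t, ht, htx⟩ := SetLike.le_def.1 hg'.le x.2
    rw [hTH] at ht
    refine ⟨t * e * t⁻¹, (Subgroup.mem_normalizer_iff.1 (hHnorm ht) e).1 he, ?_⟩
    rw [map_mul, map_mul, map_inv, htx, hea]
    rfl
  · rintro ⟨a, ha⟩ ⟨b, hb⟩
    rw [Subgroup.mem_subgroupOf] at ha hb
    obtain ⟨_, ⟨x, rfl⟩, hx⟩ := ha
    obtain ⟨_, ⟨y, rfl⟩, hy⟩ := hb
    apply Subtype.ext; apply Subtype.ext
    show (a : G) * (b : G) = (b : G) * (a : G)
    rw [← hx, ← hy, ← map_mul, ← map_mul, ← map_mul, ← map_mul, mul_comm]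
  · intro a ha
    rw [Subgroup.mem_subgroupOf] at ha
    obtain ⟨_, ⟨x, rfl⟩, hx⟩ := ha
    apply Subtype.ext
    rw [Subgroup.coe_pow, ← hx, ← map_pow, ← map_pow, hX, map_one, map_one, Subgroup.coe_one]
  · rw [Nat.card_congr (Subgroup.subgroupOfEquivOfLe hE'P).toEquiv,
      Subgroup.card_map_of_injective (MulAut.conj g).injective, ← Nat.card_congr (MonoidHom.ofInjective hφ).toEquiv]

/-- The same, for the group of units of a monoid. -/
theorem exists_normal_units {M M' N S X : Type*} [Monoid M] [Monoid M'] [Finite Mˣ] [Group N] [Group S]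
    [CommGroup X] (r : M' →* M) (hr : Function.Injective r)
    (i : N →* M') (j : S →* M') (hnorm : ∀ s n, ∃ n', j s * i n = i n' * j s)
    (hinj : ∀ n s, i n * j s = 1 → n = 1 ∧ s = 1)
    (hcard : Nat.card N * Nat.card S = 2 ^ padicValNat 2 (Nat.card Mˣ))
    (φ : X →* M') (hφ : Function.Injective φ) (hX : ∀ x : X, x ^ 2 = 1)
    (hφi : ∀ n x, ∃ x', i n * φ x = φ x' * i n) (hφj : ∀ s x, ∃ x', j s * φ x = φ x' * j s)
    (P : Sylow 2 Mˣ) :
    ∃ A : Subgroup (P : Subgroup Mˣ), A.Normal ∧ Cfsg.IsElementaryAbelian 2 A ∧ Nat.card X ≤ Nat.card A := by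
  refine exists_normal (r.comp i).toHomUnits (r.comp j).toHomUnits (fun s n => ?_) (fun n s h => ?_) hcard
    (r.comp φ).toHomUnits (fun x y h => hφ (hr (congrArg Units.val h :))) hX (fun n x => ?_) (fun s x => ?_) P
  · obtain ⟨n', e⟩ := hnorm s n
    exact ⟨n', Units.ext (by simp [← map_mul, e])⟩
  · refine hinj n s (hr ?_)
    rw [map_mul, map_one]
    exact congrArg Units.val h
  · obtain ⟨x', e⟩ := hφi n x
    exact ⟨x', Units.ext (by simp [← map_mul, e])⟩
  · obtain ⟨x', e⟩ := hφj s x
    exact ⟨x', Units.ext (by simp [← map_mul, e])⟩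

end Abstract

section Signs

/-- Signs as scalars. -/
def sg (F : Type*) [Field F] : ℤˣ →* F := ((Int.castRingHom F).toMonoidHom).comp (Units.coeHom ℤ)

theorem sg_apply {F : Type*} [Field F] (u : ℤˣ) : sg F u = ((u : ℤ) : F) := rfl

theorem sg_inj {F : Type*} [Field F] (h2 : (2 : F) ≠ 0) : Function.Injective (sg F) := by
  intro u w e
  rw [sg_apply, sg_apply] at e
  rcases Int.units_eq_one_or u with rfl | rfl <;> rcases Int.units_eq_one_or w with rfl | rfl
  · rfl
  · norm_num at e; exact absurd (show (2 : F) = 0 by linear_combination e) h2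
  · norm_num at e; exact absurd (show (2 : F) = 0 by linear_combination -e) h2
  · rfl

theorem two_ne {F : Type*} [Field F] [Fintype F] (hF : Odd (Fintype.card F)) : (2 : F) ≠ 0 := by
  apply Ring.two_ne_zero
  intro h
  have := FiniteField.even_card_of_char_two (F := F) h
  rw [Nat.odd_iff] at hF
  omega

theorem card_sg (ι : Type*) [Fintype ι] : Nat.card (ι → ℤˣ) = 2 ^ Fintype.card ι := TwoRank.card_signs ι

theorem sg_sq {ι : Type*} (x : ι → ℤˣ) : x ^ 2 = 1 := funext fun _ => Int.units_sq _

end Signs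

variable {F : Type*} [Field F] [Fintype F]

/-- Symplectic groups: the sign blocks are normal in a Sylow 2-subgroup. -/
theorem exists_normal_sp (hF : Odd (Fintype.card F)) (n : ℕ) (P : Sylow 2 (symplecticGroup (Fin n) F)) :
    ∃ A : Subgroup (P : Subgroup (symplecticGroup (Fin n) F)), A.Normal ∧ Cfsg.IsElementaryAbelian 2 A ∧
      2 ^ n ≤ Nat.card A := by
  classical
  let Q : Sylow 2 (SpecialLinearGroup (Fin 2) F) := default
  let S : Sylow 2 (Equiv.Perm (Fin n)) := default
  let D : (Fin n → ℤˣ) → Fin n → Matrix (Fin 2) (Fin 2) F := fun x k => sg F (x k) • 1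
  have hdet : ∀ x k, (D x k).det = 1 := fun x k => by
    rcases Int.units_eq_one_or (x k) with h | h <;> simp [D, h, sg_apply, det_fin_two]
  let i : (Fin n → (Q : Subgroup (SpecialLinearGroup (Fin 2) F))) →* symplecticGroup (Fin n) F :=
    { toFun := fun f => ⟨SqC.Dm fun k => (f k).1.1, SqC.Dm_symplectic _ fun k => (f k).1.2⟩
      map_one' := Subtype.ext (map_one SqC.Dm)
      map_mul' := fun f g => Subtype.ext (map_mul SqC.Dm (fun k => (f k).1.1) fun k => (g k).1.1) }
  let j : (S : Subgroup (Equiv.Perm (Fin n))) →* symplecticGroup (Fin n) F :=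
    { toFun := fun s => ⟨SqC.Pm s.1, SqC.Pm_symplectic _⟩
      map_one' := Subtype.ext (map_one SqC.Pm)
      map_mul' := fun s t => Subtype.ext (map_mul SqC.Pm s.1 t.1) }
  let φ : (Fin n → ℤˣ) →* symplecticGroup (Fin n) F :=
    { toFun := fun x => ⟨SqC.Dm (D x), SqC.Dm_symplectic _ (hdet x)⟩
      map_one' := Subtype.ext (by
        show SqC.Dm (D 1) = 1
        rw [show D 1 = 1 from funext fun k => by simp [D], map_one])
      map_mul' := fun x y => Subtype.ext (by
        show SqC.Dm (D (x * y)) = SqC.Dm (D x) * SqC.Dm (D y)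
        rw [← map_mul, show D (x * y) = D x * D y from funext fun k => by
          simp [D, smul_smul, mul_comm]]) }
  have hφ : Function.Injective φ := fun x y h => funext fun k => by
    have := congrFun (congrFun (congrArg Subtype.val h) (Sum.inl k)) (Sum.inl k)
    exact sg_inj (two_ne hF) (by simpa [φ, D, SqC.Dm_apply] using this)
  obtain ⟨A, h1, h2, h3⟩ := exists_normal i j
    (fun s f => ⟨fun k => f (s.1.symm k), Subtype.ext (SqC.Pm_Dm s.1 fun k => (f k).1.1)⟩)
    (fun f s h => by
      obtain ⟨a, b⟩ := SqC.Dm_Pm_eq_one (congrArg Subtype.val h :)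
      exact ⟨funext fun k => Subtype.ext (Subtype.ext (congrFun a k)), Subtype.ext b⟩)
    (by
      rw [Nat.card_fun, Q.card_eq_multiplicity, Nat.factorization_def _ Nat.prime_two, SqC.val_card_SL2 hF,
        SqC.card_perm_sylow, Fintype.card_fin, Nat.card_eq_fintype_card, Fintype.card_fin, ← pow_mul, ← pow_add,
        FormsLib.card_symplecticGroup, padicValNat.mul (by positivity)
          (Finset.prod_ne_zero_iff.2 fun k _ => SqC.odd_pow_sub_one Fintype.one_lt_card _ (by omega)),
        SqC.val_q_pow hF, SqC.val_prod_even Fintype.one_lt_card hF, zero_add, mul_comm])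
    φ hφ sg_sq
    (fun f x => ⟨x, Subtype.ext (by
      show SqC.Dm _ * SqC.Dm (D x) = SqC.Dm (D x) * SqC.Dm _
      rw [← map_mul, ← map_mul]
      congr 1
      funext k
      simp [D])⟩)
    (fun s x => ⟨fun k => x (s.1.symm k), Subtype.ext (SqC.Pm_Dm s.1 (D x))⟩) P
  rw [card_sg, Fintype.card_fin] at h3
  exact ⟨A, h1, h2, h3⟩

section GLn

/-- Sylow 2-subgroup orders of `GL`. -/
theorem val_card_GL (hF : Odd (Fintype.card F)) (n : ℕ) : padicValNat 2 (Nat.card (GL (Fin n) F)) =
    padicValNat 2 (∏ i ∈ Finset.range n, (Fintype.card F ^ (i + 1) - 1)) := by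
  have hq : 1 < Fintype.card F := Fintype.one_lt_card
  set q := Fintype.card F with hqd
  have e2 : ∏ i : Fin n, (q ^ n - q ^ (i : ℕ)) =
      (∏ i ∈ Finset.range n, q ^ i) * ∏ i ∈ Finset.range n, (q ^ (i + 1) - 1) := by
    rw [Fin.prod_univ_eq_prod_range (fun i => q ^ n - q ^ i), ← Finset.prod_range_reflect (fun i => q ^ (i + 1) - 1),
      ← Finset.prod_mul_distrib]
    refine Finset.prod_congr rfl fun i hi => ?_
    have hi' := Finset.mem_range.1 hi
    rw [Nat.mul_sub, mul_one, ← pow_add, show i + (n - 1 - i + 1) = n by omega]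
  rw [Matrix.card_GL_field, ← hqd, e2, padicValNat.mul (Finset.prod_ne_zero_iff.2 fun i _ => by positivity)
    (Finset.prod_ne_zero_iff.2 fun i _ => SqC.odd_pow_sub_one hq _ (by omega)), Finset.prod_pow_eq_pow_sum,
    SqC.val_q_pow hF, zero_add]

/-- The value in terms of the parity. -/
theorem val_card_GL' (hF : Odd (Fintype.card F)) (m : ℕ) :
    padicValNat 2 (Nat.card (GL (Fin (2 * m)) F)) = m * padicValNat 2 (Fintype.card F - 1) +
      m * padicValNat 2 (Fintype.card F ^ 2 - 1) + padicValNat 2 m.factorial ∧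
    padicValNat 2 (Nat.card (GL (Fin (2 * m + 1)) F)) = (m + 1) * padicValNat 2 (Fintype.card F - 1) +
      m * padicValNat 2 (Fintype.card F ^ 2 - 1) + padicValNat 2 m.factorial := by
  rw [val_card_GL hF, val_card_GL hF]
  exact SqC.val_prod Fintype.one_lt_card hF m

theorem fact_two (m : ℕ) : padicValNat 2 (2 * m).factorial = m + padicValNat 2 m.factorial ∧
    padicValNat 2 (2 * m + 1).factorial = m + padicValNat 2 m.factorial := by
  have : Fact (Nat.Prime 2) := ⟨Nat.prime_two⟩
  refine ⟨by rw [padicValNat_factorial_mul, add_comm], ?_⟩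
  rw [padicValNat_factorial_mul_add m one_lt_two, padicValNat_factorial_mul, add_comm]

/-- Monomial model, all `n`. -/
theorem exists_normal_gl_one (hF : Odd (Fintype.card F)) (h1 : Fintype.card F % 4 = 1) (n : ℕ)
    (P : Sylow 2 (GL (Fin n) F)) :
    ∃ A : Subgroup (P : Subgroup (GL (Fin n) F)), A.Normal ∧ Cfsg.IsElementaryAbelian 2 A ∧
      2 ^ n ≤ Nat.card A := by
  classical
  let Q : Sylow 2 Fˣ := default
  let S : Sylow 2 (Equiv.Perm (Fin n)) := default
  let dia : (Fin n → F) →* Matrix (Fin n) (Fin n) F := (Matrix.diagonalRingHom (Fin n) F).toMonoidHom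
  let i : (Fin n → (Q : Subgroup Fˣ)) →* Matrix (Fin n) (Fin n) F :=
    dia.comp (((Units.coeHom F).comp (Subgroup.subtype _)).compLeft (Fin n))
  let j : (S : Subgroup (Equiv.Perm (Fin n))) →* Matrix (Fin n) (Fin n) F := SqC.pM.comp (Subgroup.subtype _)
  let φ : (Fin n → ℤˣ) →* Matrix (Fin n) (Fin n) F := dia.comp ((sg F).compLeft (Fin n))
  have hi : ∀ f, i f = diagonal fun k => ((f k : Fˣ) : F) := fun _ => rfl
  have hj : ∀ s, j s = SqC.pM s.1 := fun _ => rfl
  have hφe : ∀ x, φ x = diagonal fun k => sg F (x k) := fun _ => rfl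
  have hcQ : Nat.card (Q : Subgroup Fˣ) = 2 ^ padicValNat 2 (Fintype.card F - 1) := by
    rw [Q.card_eq_multiplicity, Nat.factorization_def _ Nat.prime_two, Nat.card_units, Nat.card_eq_fintype_card]
  obtain ⟨A, a1, a2, a3⟩ := exists_normal_units (MonoidHom.id (Matrix (Fin n) (Fin n) F)) Function.injective_id
    i j (fun s f => ⟨fun k => f (s.1.symm k), by simp only [hi, hj]; exact SqC.pM_diag _ _⟩)
    (fun f s h => by
      rw [hi, hj] at h
      have hs : s.1 = 1 := by
        ext k
        have := congrFun (congrFun h k) k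
        rw [diagonal_mul, SqC.pM_apply, Matrix.one_apply_eq] at this
        by_contra hne
        rw [if_neg (fun e => hne (by rw [Equiv.Perm.one_apply, ← e]))] at this
        simp at this
      rw [hs, map_one, mul_one] at h
      exact ⟨funext fun k => Subtype.ext (Units.ext (by simpa using congrFun (congrFun h k) k)), Subtype.ext hs⟩)
    (by
      rw [Nat.card_fun, hcQ, SqC.card_perm_sylow, Fintype.card_fin, Nat.card_eq_fintype_card, Fintype.card_fin,
        ← pow_mul, ← pow_add]
      congr 1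
      have hc : padicValNat 2 (Fintype.card F ^ 2 - 1) = padicValNat 2 (Fintype.card F - 1) + 1 := by
        rw [show Fintype.card F ^ 2 - 1 = (Fintype.card F + 1) * (Fintype.card F - 1) by
            rw [← Nat.sq_sub_sq, one_pow], padicValNat.mul (by omega) (by have := Fintype.one_lt_card (α := F); omega),
          show Fintype.card F + 1 = 2 * ((Fintype.card F + 1) / 2) by omega,
          padicValNat.mul (by omega) (by omega), padicValNat.self one_lt_two,
          padicValNat.eq_zero_of_not_dvd (show ¬ 2 ∣ (Fintype.card F + 1) / 2 by omega)]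
        omega
      obtain ⟨m, rfl | rfl⟩ := Nat.even_or_odd' n
      · show _ = padicValNat 2 (Nat.card (GL (Fin (2 * m)) F))
        rw [(val_card_GL' hF m).1, (fact_two m).1, hc]; ring
      · show _ = padicValNat 2 (Nat.card (GL (Fin (2 * m + 1)) F))
        rw [(val_card_GL' hF m).2, (fact_two m).2, hc]; ring)
    φ (fun x y h => funext fun k => sg_inj (two_ne hF) (congrFun (diagonal_injective (h :)) k)) sg_sq
    (fun f x => ⟨x, by simp [hi, hφe, diagonal_mul_diagonal, mul_comm]⟩)
    (fun s x => ⟨fun k => x (s.1.symm k), by simp only [hj, hφe]; exact SqC.pM_diag _ _⟩) P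
  rw [card_sg, Fintype.card_fin] at a3
  exact ⟨A, a1, a2, a3⟩

/-- Model by blocks of size two. -/
theorem exists_normal_gl_blocks (hF : Odd (Fintype.card F)) (n : ℕ) (P : Sylow 2 (GL (Fin n) F)) :
    ∃ A : Subgroup (P : Subgroup (GL (Fin n) F)), A.Normal ∧ Cfsg.IsElementaryAbelian 2 A ∧
      2 ^ ((n + 1) / 2) ≤ Nat.card A := by
  classical
  let m := n / 2
  let e := n % 2
  let eκ : ((Fin m ⊕ Fin m) ⊕ Fin e) ≃ Fin n := Fintype.equivFinOfCardEq (by simp [m, e]; omega)
  let r : Matrix ((Fin m ⊕ Fin m) ⊕ Fin e) ((Fin m ⊕ Fin m) ⊕ Fin e) F →* Matrix (Fin n) (Fin n) F := (Matrix.reindexAlgEquiv F F eκ).toAlgHom.toRingHom.toMonoidHom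
  have hr : Function.Injective r := (Matrix.reindexAlgEquiv F F eκ).injective
  let Q : Sylow 2 (GL (Fin 2) F) := default
  let R : Sylow 2 Fˣ := default
  let S : Sylow 2 (Equiv.Perm (Fin m)) := default
  let N := (Fin m → (Q : Subgroup (GL (Fin 2) F))) × (Fin e → (R : Subgroup Fˣ))
  let B : (Fin m → Matrix (Fin 2) (Fin 2) F) × (Fin e → F) →* Matrix ((Fin m ⊕ Fin m) ⊕ Fin e) ((Fin m ⊕ Fin m) ⊕ Fin e) F :=
    { toFun := fun p => fromBlocks (SqC.Dm p.1) 0 0 (diagonal p.2)
      map_one' := by simp [fromBlocks_one]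
      map_mul' := fun p p' => by simp [fromBlocks_multiply, diagonal_mul_diagonal] }
  let i : N →* Matrix ((Fin m ⊕ Fin m) ⊕ Fin e) ((Fin m ⊕ Fin m) ⊕ Fin e) F :=
    B.comp (MonoidHom.prodMap (((Units.coeHom _).comp (Subgroup.subtype _)).compLeft (Fin m))
      (((Units.coeHom F).comp (Subgroup.subtype _)).compLeft (Fin e)))
  let j : (S : Subgroup (Equiv.Perm (Fin m))) →* Matrix ((Fin m ⊕ Fin m) ⊕ Fin e) ((Fin m ⊕ Fin m) ⊕ Fin e) F :=
    { toFun := fun s => fromBlocks (SqC.Pm s.1) 0 0 1
      map_one' := by simp [fromBlocks_one]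
      map_mul' := fun s t => by simp [fromBlocks_multiply] }
  let D : (Fin m → ℤˣ) →* (Fin m → Matrix (Fin 2) (Fin 2) F) :=
    ((Matrix.scalar (Fin 2)).toMonoidHom.comp (sg F)).compLeft (Fin m)
  let φ : (Fin m → ℤˣ) × (Fin e → ℤˣ) →* Matrix ((Fin m ⊕ Fin m) ⊕ Fin e) ((Fin m ⊕ Fin m) ⊕ Fin e) F := B.comp (MonoidHom.prodMap D ((sg F).compLeft (Fin e)))
  have hi : ∀ p : N, i p = fromBlocks (SqC.Dm fun k => ((p.1 k : GL (Fin 2) F) : Matrix (Fin 2) (Fin 2) F)) 0 0
      (diagonal fun k => ((p.2 k : Fˣ) : F)) := fun _ => rfl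
  have hj : ∀ s, j s = fromBlocks (SqC.Pm s.1) 0 0 1 := fun _ => rfl
  have hφe : ∀ x, φ x = fromBlocks (SqC.Dm fun k => Matrix.scalar (Fin 2) (sg F (x.1 k))) 0 0
      (diagonal fun k => sg F (x.2 k)) := fun _ => rfl
  obtain ⟨A, a1, a2, a3⟩ := exists_normal_units r hr i j
    (fun s p => ⟨(fun k => p.1 (s.1.symm k), p.2), by
      simp only [hi, hj, fromBlocks_multiply, SqC.Pm_Dm]; simp⟩)
    (fun p s h => by
      rw [hi, hj, fromBlocks_multiply, ← fromBlocks_one] at h
      obtain ⟨h11, -, -, h22⟩ := fromBlocks_inj.1 h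
      simp only [Matrix.mul_zero, add_zero, zero_add, mul_one] at h11 h22
      obtain ⟨a, b⟩ := SqC.Dm_Pm_eq_one h11
      refine ⟨Prod.ext (funext fun k => Subtype.ext (Units.ext (congrFun a k))) (funext fun k => ?_), Subtype.ext b⟩
      exact Subtype.ext (Units.ext (by simpa using congrFun (congrFun h22 k) k)))
    (by
      have hQ : Nat.card (Q : Subgroup (GL (Fin 2) F)) =
          2 ^ (padicValNat 2 (Fintype.card F - 1) + padicValNat 2 (Fintype.card F ^ 2 - 1)) := by
        rw [Q.card_eq_multiplicity, Nat.factorization_def _ Nat.prime_two]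
        have := (val_card_GL' hF 1).1
        simp only [Nat.factorial_one, padicValNat_one_right, one_mul, add_zero] at this
        rw [this]
      have hR : Nat.card (R : Subgroup Fˣ) = 2 ^ padicValNat 2 (Fintype.card F - 1) := by
        rw [R.card_eq_multiplicity, Nat.factorization_def _ Nat.prime_two, Nat.card_units, Nat.card_eq_fintype_card]
      rw [Nat.card_prod, Nat.card_fun, Nat.card_fun, hQ, hR, SqC.card_perm_sylow, Fintype.card_fin,
        Nat.card_eq_fintype_card, Fintype.card_fin, Nat.card_eq_fintype_card, Fintype.card_fin,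
        ← pow_mul, ← pow_mul, ← pow_add, ← pow_add]
      congr 1
      show _ = padicValNat 2 (Nat.card (GL (Fin n) F))
      rcases Nat.mod_two_eq_zero_or_one n with h | h
      · have hn : n = 2 * m := by omega
        conv_rhs => rw [hn, (val_card_GL' hF m).1]
        simp [e, h]; ring
      · have hn : n = 2 * m + 1 := by omega
        conv_rhs => rw [hn, (val_card_GL' hF m).2]
        simp [e, h]; ring)
    φ (fun x y h => by
      rw [hφe, hφe] at h
      obtain ⟨h11, -, -, h22⟩ := fromBlocks_inj.1 h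
      refine Prod.ext (funext fun k => sg_inj (two_ne hF) ?_)
        (funext fun k => sg_inj (two_ne hF) (congrFun (diagonal_injective h22) k))
      simpa [SqC.Dm_apply, diagonal_apply] using congrFun (congrFun h11 (Sum.inl k)) (Sum.inl k))
    (fun x => Prod.ext (sg_sq _) (sg_sq _))
    (fun p x => ⟨x, by
      simp only [hi, hφe, fromBlocks_multiply, ← map_mul, diagonal_mul_diagonal]
      simp only [Matrix.zero_mul, Matrix.mul_zero, add_zero, zero_add]
      congr 2
      · funext k
        exact ((Matrix.scalar_commute (sg F (x.1 k)) (fun _ => mul_comm _ _) _).eq).symm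
      · funext k; exact mul_comm _ _⟩)
    (fun s x => ⟨(fun k => x.1 (s.1.symm k), x.2), by
      simp only [hj, hφe, fromBlocks_multiply, SqC.Pm_Dm]; simp⟩) P
  refine ⟨A, a1, a2, le_trans (le_of_eq ?_) a3⟩
  rw [Nat.card_prod, card_sg, card_sg, Fintype.card_fin, Fintype.card_fin, ← pow_add]
  congr 1
  omega

/-- Image of a subgroup of a subgroup, with signs in an eigenbasis. -/
theorem exists_diag (hF : Odd (Fintype.card F)) {n : ℕ} (P : Subgroup (GL (Fin n) F)) (E : Subgroup P)
    (hE : Cfsg.IsElementaryAbelian 2 E) :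
    ∃ (M : P →* Matrix (Fin n) (Fin n) F) (ε : E →* (Fin n → ℤˣ)), Function.Injective M ∧
      ∀ a : E, M a.1 = diagonal fun i => sg F (ε a i) := by
  classical
  let ρ : GL (Fin n) F →* ((Fin n → F) ≃ₗ[F] (Fin n → F)) :=
    ((LinearMap.GeneralLinearGroup.generalLinearEquiv F (Fin n → F)).toMonoidHom).comp
      (Matrix.GeneralLinearGroup.toLin : GL (Fin n) F ≃* _).toMonoidHom
  have hρ : Function.Injective ρ :=
    (LinearMap.GeneralLinearGroup.generalLinearEquiv F _).injective.comp Matrix.GeneralLinearGroup.toLin.injective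
  obtain ⟨b, ε, hε⟩ := TwoRank.exists_signs (two_ne hF) (ρ.comp P.subtype) E hE.1 hE.2
  let b' := b.reindex (finCongr (Module.finrank_fin_fun F))
  let L : ((Fin n → F) ≃ₗ[F] (Fin n → F)) →* Matrix (Fin n) (Fin n) F :=
    { toFun := fun f => LinearMap.toMatrixAlgEquiv b' (f : (Fin n → F) →ₗ[F] (Fin n → F))
      map_one' := by rw [← map_one (LinearMap.toMatrixAlgEquiv b')]; rfl
      map_mul' := fun f g => by rw [← map_mul]; rfl }
  have hL : Function.Injective L := fun f g h =>
    LinearEquiv.toLinearMap_injective ((LinearMap.toMatrixAlgEquiv b').injective h)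
  refine ⟨L.comp (ρ.comp P.subtype),
    { toFun := fun a i => ε a ((finCongr (Module.finrank_fin_fun F)).symm i)
      map_one' := by funext i; simp
      map_mul' := fun a c => by funext i; simp },
    hL.comp (hρ.comp Subtype.val_injective), fun a => ?_⟩
  ext i k
  show LinearMap.toMatrixAlgEquiv b' _ i k = _
  rw [LinearMap.toMatrixAlgEquiv_apply]
  show b'.repr ((ρ.comp P.subtype) a.1 (b' k)) i = _
  rw [show b' k = b ((finCongr (Module.finrank_fin_fun F)).symm k) from Module.Basis.reindex_apply _ _ _, hε,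
    map_smul, ← show b' k = b ((finCongr (Module.finrank_fin_fun F)).symm k) from Module.Basis.reindex_apply _ _ _,
    Module.Basis.repr_self, Finsupp.smul_apply, Finsupp.single_apply, diagonal_apply]
  rcases eq_or_ne i k with h | h
  · simp [h, sg_apply]
  · simp [h, h.symm]

omit [Fintype F] in
theorem diag_le {n : ℕ} {P : Type*} [Group P] {E : Subgroup P} {M : P →* Matrix (Fin n) (Fin n) F}
    {ε : E →* (Fin n → ℤˣ)} (hM : Function.Injective M) (hε : ∀ a : E, M a.1 = diagonal fun i => sg F (ε a i)) :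
    Function.Injective ε := fun a c h => Subtype.ext (hM (by rw [hε, hε, h]))

/-- Elementary abelian 2-subgroups of `GL_n` have rank at most `n`. -/
theorem gl_le (hF : Odd (Fintype.card F)) {n : ℕ} (P : Subgroup (GL (Fin n) F)) (E : Subgroup P)
    (hE : Cfsg.IsElementaryAbelian 2 E) : Nat.card E ≤ 2 ^ n := by
  obtain ⟨M, ε, hM, hε⟩ := exists_diag hF P E hE
  refine (Nat.card_le_card_of_injective ε (diag_le hM hε)).trans (le_of_eq ?_)
  rw [card_sg, Fintype.card_fin]

theorem factorial_val_le {a n : ℕ} (h : a ≤ n) :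
    padicValNat 2 a.factorial + padicValNat 2 (n - a).factorial ≤ padicValNat 2 n.factorial := by
  have : Fact (Nat.Prime 2) := ⟨Nat.prime_two⟩
  rw [← padicValNat.mul a.factorial_ne_zero (n - a).factorial_ne_zero]
  exact (padicValNat_dvd_iff_le n.factorial_ne_zero).1
    (pow_padicValNat_dvd.trans (Nat.factorial_mul_factorial_dvd_factorial h))

/-- Normal elementary abelian subgroups of a Sylow 2-subgroup, `q ≡ 3 (mod 4)`. -/
theorem normal_le_three (hF : Odd (Fintype.card F)) (h3 : Fintype.card F % 4 = 3) {n : ℕ} {P : Type*} [Group P]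
    (hP : Nat.card P = 2 ^ padicValNat 2 (Nat.card (GL (Fin n) F)))
    (M : P →* Matrix (Fin n) (Fin n) F) (hM : Function.Injective M) (E : Subgroup P) [E.Normal]
    (ε : E →* (Fin n → ℤˣ)) (hε : ∀ a : E, M a.1 = diagonal fun i => sg F (ε a i)) :
    Nat.card E ≤ 2 ^ ((n + 1) / 2) := by
  classical
  have : Fact (Nat.Prime 2) := ⟨Nat.prime_two⟩
  have : Finite P := Nat.finite_of_card_ne_zero (by rw [hP]; positivity)
  let χ : Fin n → (E → ℤˣ) := fun i a => ε a i
  let T : P → (E → ℤˣ) → (E → ℤˣ) := fun s c a => c (MulAut.conjNormal s⁻¹ a)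
  have T_mul : ∀ s t c, T (s * t) c = T s (T t c) := fun s t c => funext fun a => by
    show c (MulAut.conjNormal (s * t)⁻¹ a) = c (MulAut.conjNormal t⁻¹ (MulAut.conjNormal s⁻¹ a))
    rw [_root_.mul_inv_rev, map_mul, MulAut.mul_apply]
  have T_one : ∀ c, T 1 c = c := fun c => funext fun a => by
    show c (MulAut.conjNormal (1 : P)⁻¹ a) = c a
    rw [inv_one, map_one, MulAut.one_apply]
  have key : ∀ s i j, M s i j ≠ 0 → χ i = T s (χ j) := by
    intro s i j hne
    funext a
    have e : M a.1 * M s = M s * M (MulAut.conjNormal s⁻¹ a).1 := by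
      rw [← map_mul, ← map_mul, MulAut.conjNormal_apply, inv_inv]
      congr 1
      group
    have e' := congrFun (congrFun e i) j
    rw [hε, hε, diagonal_mul, mul_diagonal, mul_comm (M s i j)] at e'
    exact sg_inj (two_ne hF) (mul_right_cancel₀ hne e')
  let U : Fin n → Prop := fun i => ∀ l, χ l = χ i → l = i
  have sole : ∀ s i j l, j ≠ l → (∀ r, M s r j ≠ 0 → r = i) → (∀ r, M s r l ≠ 0 → r = i) → False := by
    intro s i j l hjl hj hl
    have ent : ∀ u v, (∀ r, M s r v ≠ 0 → r = i) → M s⁻¹ u i * M s i v = if u = v then 1 else 0 := by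
      intro u v hv
      have : (M s⁻¹ * M s) u v = if u = v then 1 else 0 := by
        rw [← map_mul, inv_mul_cancel, map_one, Matrix.one_apply]
      rw [← this, Matrix.mul_apply, Finset.sum_eq_single i]
      · intro r _ hr
        rw [not_not.1 (mt (hv r) hr), mul_zero]
      · simp
    have a1 := ent j j hj
    have a2 := ent l l hl
    have a3 := ent j l hl
    rw [if_pos rfl] at a1 a2
    rw [if_neg hjl] at a3
    rcases mul_eq_zero.1 a3 with h | h
    · rw [h, zero_mul] at a1; exact zero_ne_one a1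
    · rw [h, mul_zero] at a2; exact zero_ne_one a2
  have key2 : ∀ s i j, M s i j ≠ 0 → U j → U i := by
    intro s i j hne hj l hl
    by_contra hli
    have hs : ∀ r v, χ v = χ i → M s⁻¹ r v ≠ 0 → r = j := fun r v hv hr => hj r (by
      rw [key _ _ _ hr, hv, key _ _ _ hne]
      exact (T_mul s⁻¹ s (χ j)).symm.trans (by rw [inv_mul_cancel, T_one]))
    exact sole s⁻¹ j l i hli (fun r => hs r l hl) (fun r => hs r i rfl)
  have key3 : ∀ s i j, M s i j ≠ 0 → U i → U j := by
    intro s i j hne hi l hl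
    by_contra hlj
    have hs : ∀ r v, χ v = χ j → M s r v ≠ 0 → r = i := fun r v hv hr => hi r (by
      rw [key _ _ _ hr, hv, key _ _ _ hne])
    exact sole s i l j hlj (fun r => hs r l hl) (fun r => hs r j rfl)
  have col : ∀ s j, ∃ i, M s i j ≠ 0 := by
    intro s j
    by_contra hc
    push Not at hc
    have : (M s⁻¹ * M s) j j = 1 := by rw [← map_mul, inv_mul_cancel, map_one, Matrix.one_apply_eq]
    rw [Matrix.mul_apply, Finset.sum_eq_zero fun r _ => by rw [hc r, mul_zero]] at this
    exact zero_ne_one this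
  let W := {i // U i}
  let W' := {i // ¬ U i}
  have hperm : ∀ (s : P) (w : W), ∃ w' : W, χ w'.1 = T s (χ w.1) := fun s w => by
    obtain ⟨i, hi⟩ := col s w.1
    exact ⟨⟨i, key2 _ _ _ hi w.2⟩, key _ _ _ hi⟩
  choose f hf using hperm
  have hχW : ∀ w w' : W, χ w.1 = χ w'.1 → w = w' := fun w w' h => Subtype.ext (w'.2 _ h)
  have f_mul : ∀ s t w, f (s * t) w = f s (f t w) := fun s t w =>
    hχW _ _ (by rw [hf, hf, hf, T_mul])
  have f_one : ∀ w, f 1 w = w := fun w => hχW _ _ (by rw [hf, T_one])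
  let σ : P →* Equiv.Perm W :=
    { toFun := fun s => ⟨f s, f s⁻¹, fun w => by rw [← f_mul, inv_mul_cancel, f_one],
        fun w => by rw [← f_mul, mul_inv_cancel, f_one]⟩
      map_one' := Equiv.ext f_one
      map_mul' := fun s t => Equiv.ext (f_mul s t) }
  let π : P →* Matrix W' W' F :=
    { toFun := fun s => (M s).submatrix Subtype.val Subtype.val
      map_one' := by rw [map_one, Matrix.submatrix_one _ Subtype.val_injective]
      map_mul' := fun s t => by
        ext u v
        simp only [submatrix_apply, map_mul, Matrix.mul_apply]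
        rw [← Finset.sum_subtype (Finset.univ.filter fun i => ¬ U i) (by simp)
          (fun r => M s u.1 r * M t r v.1), Finset.sum_filter]
        refine Finset.sum_congr rfl fun r _ => ?_
        by_cases hr : U r
        · rw [if_neg (not_not.2 hr), not_not.1 (mt (key2 s u.1 r) (fun h => u.2 (h hr))), zero_mul]
        · rw [if_pos hr] }
  let Φ : P →* Equiv.Perm W × (Matrix W' W' F)ˣ := σ.prod π.toHomUnits
  have hker : ∀ (s : Φ.ker) (i : Fin n) (w : W), M s.1 i w.1 ≠ 0 → i = w.1 := by
    intro s i w hne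
    have h1 : σ s.1 = 1 := congrArg Prod.fst s.2
    have h2 : f s.1 w = w := by
      have := congrArg (fun p : Equiv.Perm W => p w) h1
      exact this
    exact w.2 i (by rw [key _ _ _ hne, ← hf s.1 w, h2])
  let δ : Φ.ker →* (W → F) :=
    { toFun := fun s w => M s.1 w.1 w.1
      map_one' := funext fun w => by simp
      map_mul' := fun s t => funext fun w => by
        show M (s.1 * t.1) w.1 w.1 = M s.1 w.1 w.1 * M t.1 w.1 w.1
        rw [map_mul, Matrix.mul_apply, Finset.sum_eq_single w.1]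
        · intro r _ hr
          rw [not_not.1 (mt (hker t r w) hr), mul_zero]
        · simp }
  have hδ : Function.Injective δ.toHomUnits := by
    intro s t h
    apply Subtype.ext; apply hM
    ext i k
    by_cases hk : U k
    · rcases eq_or_ne i k with rfl | hne
      · exact congrFun (congrArg Units.val h :) ⟨i, hk⟩
      · rw [not_not.1 (mt (hker s i ⟨k, hk⟩) hne), not_not.1 (mt (hker t i ⟨k, hk⟩) hne)]
    · by_cases hi : U i
      · rw [not_not.1 (mt (key3 s.1 i k) fun g => hk (g hi)), not_not.1 (mt (key3 t.1 i k) fun g => hk (g hi))]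
      · have hs : π s.1 = π t.1 := by
          have e1 := congrArg (fun p => (Prod.snd p).val) (MonoidHom.mem_ker.1 s.2)
          have e2 := congrArg (fun p => (Prod.snd p).val) (MonoidHom.mem_ker.1 t.2)
          exact e1.trans e2.symm
        exact congrFun (congrFun hs ⟨i, hi⟩) ⟨k, hk⟩
  -- orders
  have hdvd : Nat.card P ∣ Nat.card (Equiv.Perm W × (Matrix W' W' F)ˣ) * Nat.card (W → Fˣ) := by
    rw [← Subgroup.card_mul_index Φ.ker, Subgroup.index_ker, mul_comm]
    exact mul_dvd_mul (Subgroup.card_subgroup_dvd_card _)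
      ((Subgroup.card_dvd_of_injective δ.toHomUnits hδ).trans (dvd_of_eq (Nat.card_congr MulEquiv.piUnits.toEquiv)))
  let a := Fintype.card W
  have hWn : Fintype.card W' = n - a := by
    simp only [a, W, W', Fintype.card_subtype_compl, Fintype.card_fin]
  have han : a ≤ n := (Fintype.card_subtype_le U).trans_eq (Fintype.card_fin n)
  have hGL : Nat.card (Matrix W' W' F)ˣ = Nat.card (GL (Fin (n - a)) F) :=
    Nat.card_congr (Units.mapEquiv (Matrix.reindexAlgEquiv F F (Fintype.equivFinOfCardEq hWn)).toMulEquiv).toEquiv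
  rw [hP, Nat.card_prod, hGL, Nat.card_perm, Nat.card_fun, Nat.card_units, Nat.card_eq_fintype_card (α := W),
    Nat.card_eq_fintype_card (α := F)] at hdvd
  change 2 ^ _ ∣ a.factorial * Nat.card (GL (Fin (n - a)) F) * (Fintype.card F - 1) ^ a at hdvd
  have h1 : 1 < Fintype.card F := Fintype.one_lt_card
  have hq1 : padicValNat 2 (Fintype.card F - 1) = 1 := by
    rw [show Fintype.card F - 1 = 2 * ((Fintype.card F - 1) / 2) by omega,
      padicValNat.mul (by omega) (by omega), padicValNat.self one_lt_two,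
      padicValNat.eq_zero_of_not_dvd (show ¬ 2 ∣ (Fintype.card F - 1) / 2 by omega)]
  have hc : 3 ≤ padicValNat 2 (Fintype.card F ^ 2 - 1) := by
    rw [show Fintype.card F ^ 2 - 1 = (Fintype.card F + 1) * (Fintype.card F - 1) by rw [← Nat.sq_sub_sq, one_pow],
      padicValNat.mul (by omega) (by omega), hq1]
    have : 2 ^ 2 ∣ Fintype.card F + 1 := by norm_num; omega
    have := (padicValNat_dvd_iff_le (by omega)).1 this
    omega
  have hv := (padicValNat_dvd_iff_le (mul_ne_zero (mul_ne_zero a.factorial_ne_zero Nat.card_pos.ne')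
    (pow_ne_zero _ (by omega)))).1 hdvd
  rw [padicValNat.mul (mul_ne_zero a.factorial_ne_zero Nat.card_pos.ne') (pow_ne_zero _ (by omega)),
    padicValNat.mul a.factorial_ne_zero Nat.card_pos.ne', padicValNat.pow, hq1, mul_one] at hv
  have ha : a < 2 := by
    by_contra ha
    push Not at ha
    have g : ∀ k, padicValNat 2 (Nat.card (GL (Fin k) F)) + 2 * (k / 2) =
        k + (k / 2) * padicValNat 2 (Fintype.card F ^ 2 - 1) + padicValNat 2 k.factorial := by
      intro k
      obtain ⟨m, rfl | rfl⟩ := Nat.even_or_odd' k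
      · rw [(val_card_GL' hF m).1, (fact_two m).1, hq1, show 2 * m / 2 = m by omega]; ring
      · rw [(val_card_GL' hF m).2, (fact_two m).2, hq1, show (2 * m + 1) / 2 = m by omega]; ring
    have g1 := g n
    have g2 := g (n - a)
    have g3 := factorial_val_le han
    obtain ⟨d, hd, hd'⟩ : ∃ d, 1 ≤ d ∧ n / 2 = (n - a) / 2 + d := ⟨n / 2 - (n - a) / 2, by omega, by omega⟩
    rw [hd'] at g1
    have g4 := Nat.mul_le_mul_left d hc
    have g5 : n - a + a = n := by omega
    nlinarith
  -- number of weights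
  let X : Finset (E → ℤˣ) := Finset.univ.image χ
  have hcount : X.card * 2 ≤ n + a := by
    have s1 : n = ∑ x ∈ X, (Finset.univ.filter fun i => χ i = x).card := by
      conv_lhs => rw [← Fintype.card_fin n]
      exact Finset.card_eq_sum_card_image χ Finset.univ
    have s2 : a = ∑ x ∈ X, ((Finset.univ.filter U).filter fun i => χ i = x).card := by
      rw [← Finset.card_eq_sum_card_fiberwise (fun i _ => Finset.mem_image_of_mem χ (Finset.mem_univ i))]
      exact Fintype.card_subtype U
    conv_rhs => rw [s1, s2]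
    rw [← Finset.sum_add_distrib, ← smul_eq_mul, ← Finset.sum_const]
    refine Finset.sum_le_sum fun x hx => ?_
    obtain ⟨i, -, rfl⟩ := Finset.mem_image.1 hx
    have c1 : 1 ≤ (Finset.univ.filter fun k => χ k = χ i).card := Finset.card_pos.2 ⟨i, by simp⟩
    by_cases hi : U i
    · have : 1 ≤ ((Finset.univ.filter U).filter fun k => χ k = χ i).card := Finset.card_pos.2 ⟨i, by simp [hi]⟩
      omega
    · obtain ⟨l, hl, hne⟩ : ∃ l, χ l = χ i ∧ l ≠ i := by simpa [U] using hi
      have : 1 < (Finset.univ.filter fun k => χ k = χ i).card :=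
        Finset.one_lt_card.2 ⟨l, by simp [hl], i, by simp, hne⟩
      omega
  let ψ : E → (X → ℤˣ) := fun e x => x.1 e
  have hψ : Function.Injective ψ := fun e e' h => diag_le hM hε (funext fun i =>
    congrFun h ⟨χ i, Finset.mem_image_of_mem χ (Finset.mem_univ i)⟩)
  refine (Nat.card_le_card_of_injective ψ hψ).trans ?_
  rw [card_sg, Fintype.card_coe]
  exact Nat.pow_le_pow_right (by norm_num) (by omega)

end GLn

end Cfsg.Agent.TwoRankNormal
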