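import Cfsg.Agent.Lib.TwoRank.Basic
import Cfsg.Agent.Lib.Spinor.Rows
import Cfsg.Prelude.Def_CaseTheorems
import Cfsg.Prelude.Def_EvenType

/-!
The 2-rank of `Ω(Q)` in odd characteristic, in terms of orthogonal bases.
-/

set_option autoImplicit false

namespace Cfsg.Agent.TwoRank

open Cfsg.Agent.FormsLib

variable {F : Type*} [Field F] [Fintype F] {ι : Type} [Fintype ι] [DecidableEq ι]
  {Q : QuadraticForm F (ι → F)} (h2 : (2 : F) ≠ 0) (hQ : (QuadraticMap.polarBilin Q).Nondegenerate)

open scoped Classical in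
/-- The square class of an element. -/
noncomputable def cls (c : F) : ℤˣ := if IsSquare c then 1 else -1

theorem cls_mul {a b : F} (ha : a ≠ 0) (hb : b ≠ 0) : cls (a * b) = cls a * cls b := by
  have h := Spinor.isSquare_mul_iff' ha hb
  by_cases h1 : IsSquare a <;> by_cases h3 : IsSquare b <;> simp [cls, h, h1, h3]

theorem cls_sq {a : F} : cls (a * a) = 1 := by simp [cls, IsSquare.mul_self a]

theorem cls_one : cls (1 : F) = 1 := by simp [cls]

theorem cls_eq_one {a : F} : cls a = 1 ↔ IsSquare a := by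
  by_cases h : IsSquare a <;> simp [cls, h]

theorem cls_prod {κ : Type*} (s : Finset κ) {f : κ → F} (hf : ∀ i ∈ s, f i ≠ 0) :
    cls (∏ i ∈ s, f i) = ∏ i ∈ s, cls (f i) := by
  classical
  induction s using Finset.induction_on with
  | empty => simp [cls_one]
  | insert i s hi ih =>
    rw [Finset.prod_insert hi, Finset.prod_insert hi, cls_mul (hf i (Finset.mem_insert_self _ _))
      (Finset.prod_ne_zero_iff.2 fun j hj => hf j (Finset.mem_insert_of_mem hj)),
      ih fun j hj => hf j (Finset.mem_insert_of_mem hj)]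

/-- An orthogonal basis. -/
structure IsOrth {κ : Type*} (Q : QuadraticForm F (ι → F)) (v : κ → ι → F) : Prop where
  orth : ∀ i j, i ≠ j → QuadraticMap.polar Q (v i) (v j) = 0
  ne : ∀ i, Q (v i) ≠ 0
  span : ⊤ ≤ Submodule.span F (Set.range v)

section Basis

variable {κ : Type*} {v : κ → ι → F}

include h2

omit [Fintype F] in
theorem IsOrth.indep (h : IsOrth Q v) : LinearIndependent F v := by
  classical
  rw [linearIndependent_iff']
  intro s c hc i hi
  have h1 := congrArg (QuadraticMap.polarBilin Q (v i)) hc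
  rw [map_sum, Finset.sum_eq_single i (fun j _ hj => by
    rw [map_smul, QuadraticMap.polarBilin_apply_apply, h.orth i j (Ne.symm hj), smul_zero])
    (fun hni => absurd hi hni), map_zero, map_smul, QuadraticMap.polarBilin_apply_apply, polar_self',
    smul_eq_mul] at h1
  exact (mul_eq_zero.1 h1).resolve_right (mul_ne_zero h2 (h.ne i))

omit [Fintype F] in
/-- The basis. -/
noncomputable def IsOrth.basis (h : IsOrth Q v) : Module.Basis κ F (ι → F) :=
  Module.Basis.mk (h.indep h2) h.span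

omit [Fintype F] in
theorem IsOrth.basis_apply (h : IsOrth Q v) (i : κ) : h.basis h2 i = v i :=
  Module.Basis.mk_apply _ _ i

omit [Fintype F] in
theorem IsOrth.card [Fintype κ] (h : IsOrth Q v) : Fintype.card κ = Fintype.card ι := by
  rw [← Module.finrank_eq_card_basis (h.basis h2), Module.finrank_fintype_fun_eq_card]

omit [Fintype F] in
theorem IsOrth.toMatrix [Fintype κ] [DecidableEq κ] (h : IsOrth Q v) :
    LinearMap.BilinForm.toMatrix (h.basis h2) (QuadraticMap.polarBilin Q) =
      Matrix.diagonal fun i => 2 * Q (v i) := by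
  ext i j
  rw [LinearMap.BilinForm.toMatrix_apply, h.basis_apply h2, h.basis_apply h2, QuadraticMap.polarBilin_apply_apply]
  by_cases hij : i = j
  · rw [hij, Matrix.diagonal_apply_eq, polar_self']
  · rw [Matrix.diagonal_apply_ne _ hij, h.orth i j hij]

/-- The discriminant class does not depend on the basis. -/
theorem disc_eq [Fintype κ] {μ : Type*} [Fintype μ] {w : μ → ι → F} (h : IsOrth Q v) (h' : IsOrth Q w) :
    cls (∏ i, Q (v i)) = cls (∏ i, Q (w i)) := by
  classical
  let e : μ ≃ κ := Fintype.equivOfCardEq ((h'.card h2).trans (h.card h2).symm)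
  have key := congrArg Matrix.det (LinearMap.BilinForm.toMatrix_mul_basis_toMatrix (h.basis h2)
    ((h'.basis h2).reindex e) (QuadraticMap.polarBilin Q))
  rw [h.toMatrix h2, Matrix.det_mul, Matrix.det_mul, Matrix.det_transpose, Matrix.det_diagonal] at key
  have hw : LinearMap.BilinForm.toMatrix ((h'.basis h2).reindex e) (QuadraticMap.polarBilin Q) =
      Matrix.diagonal fun i => 2 * Q (w (e.symm i)) := by
    ext i j
    rw [LinearMap.BilinForm.toMatrix_apply, Module.Basis.reindex_apply, Module.Basis.reindex_apply, h'.basis_apply h2,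
      h'.basis_apply h2, QuadraticMap.polarBilin_apply_apply]
    by_cases hij : i = j
    · rw [hij, Matrix.diagonal_apply_eq, polar_self']
    · rw [Matrix.diagonal_apply_ne _ hij, h'.orth _ _ fun e' => hij (e.symm.injective e')]
  rw [hw, Matrix.det_diagonal, Finset.prod_mul_distrib, Finset.prod_mul_distrib,
    Equiv.prod_comp e.symm (fun i => Q (w i))] at key
  set d := Matrix.det ((h.basis h2).toMatrix ((h'.basis h2).reindex e)) with hd
  set t := ∏ _i : κ, (2 : F) with ht
  have ht0 : t ≠ 0 := Finset.prod_ne_zero_iff.2 fun _ _ => h2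
  have hv0 : (∏ i, Q (v i)) ≠ 0 := Finset.prod_ne_zero_iff.2 fun i _ => h.ne i
  have hw0 : (∏ i, Q (w i)) ≠ 0 := Finset.prod_ne_zero_iff.2 fun i _ => h'.ne i
  have key' : t * (∏ i, Q (w i)) = t * ((d * d) * ∏ i, Q (v i)) := by
    linear_combination -key
  have hd0 : d ≠ 0 := fun e' => by simp [e', hw0, ht0] at key'
  rw [mul_left_cancel₀ ht0 key', cls_mul (mul_ne_zero hd0 hd0) hv0, cls_sq, one_mul]

omit [Fintype F] in
/-- Invariant subspaces are spanned by pairwise orthogonal common eigenvectors. -/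
theorem span_orth_eig (S : Set ((ι → F) →ₗ[F] (ι → F))) (hinv : ∀ a ∈ S, ∀ v, a (a v) = v)
    (hcomm : ∀ a ∈ S, ∀ b ∈ S, ∀ v, a (b v) = b (a v)) (hiso : ∀ a ∈ S, ∀ v, Q (a v) = Q v) :
    ∀ (d : ℕ) (W : Submodule F (ι → F)), Module.finrank F W ≤ d → (∀ a ∈ S, ∀ v ∈ W, a v ∈ W) →
      ∃ T : Set (ι → F), T ⊆ eigVecs S ∩ (W : Set (ι → F)) ∧
        T.Pairwise (fun x y => QuadraticMap.polar Q x y = 0) ∧ W ≤ Submodule.span F T := by
  have : Invertible (2 : F) := invertibleOfNonzero h2
  intro d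
  induction d with
  | zero =>
    intro W hW _
    refine ⟨∅, Set.empty_subset _, Set.pairwise_empty _, fun v hv => ?_⟩
    rw [Submodule.finrank_eq_zero.1 (Nat.le_zero.1 hW), Submodule.mem_bot] at hv
    rw [hv]
    exact zero_mem _
  | succ d ih =>
    intro W hW hS
    by_cases hsc : ∀ a ∈ S, (∀ v ∈ W, a v = v) ∨ ∀ v ∈ W, a v = -v
    · obtain ⟨b, hb⟩ := LinearMap.BilinForm.exists_orthogonal_basis
        (B := LinearMap.BilinForm.restrict (QuadraticMap.polarBilin Q) W)
        ⟨fun x y => QuadraticMap.polar_comm Q (x : ι → F) (y : ι → F)⟩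
      refine ⟨Set.range fun i => (b i : ι → F), ?_, ?_, fun v hv => ?_⟩
      · rintro _ ⟨i, rfl⟩
        exact ⟨fun a ha => (hsc a ha).imp (fun h => h _ (b i).2) (fun h => h _ (b i).2), (b i).2⟩
      · rintro _ ⟨i, rfl⟩ _ ⟨j, rfl⟩ hne
        exact hb (fun e => hne (by rw [e]))
      · have hv' := b.mem_span ⟨v, hv⟩
        rw [Set.range_comp' (fun x : W => (x : ι → F)), ← Submodule.coe_subtype, Submodule.span_image]
        exact ⟨_, hv', rfl⟩
    push Not at hsc
    obtain ⟨a, ha, ⟨x, hx, hx'⟩, ⟨y, hy, hy'⟩⟩ := hsc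
    obtain ⟨P, hP⟩ : ∃ P : Submodule F (ι → F), P = W ⊓ LinearMap.ker (a - LinearMap.id) := ⟨_, rfl⟩
    obtain ⟨M, hM⟩ : ∃ M : Submodule F (ι → F), M = W ⊓ LinearMap.ker (a + LinearMap.id) := ⟨_, rfl⟩
    have mP : ∀ v, v ∈ P ↔ v ∈ W ∧ a v = v := fun v => by simp [hP, sub_eq_zero]
    have mM : ∀ v, v ∈ M ↔ v ∈ W ∧ a v = -v := fun v => by simp [hM, eq_neg_iff_add_eq_zero]
    have lt : ∀ U : Submodule F (ι → F), U ≤ W → (∃ z ∈ W, z ∉ U) → Module.finrank F U ≤ d := by
      intro U hU hz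
      have := Submodule.finrank_lt_finrank_of_lt (lt_of_le_of_ne hU fun e => by
        obtain ⟨z, hz, hz'⟩ := hz; exact hz' (e ▸ hz))
      omega
    obtain ⟨T1, hT1, o1, s1⟩ := ih P (lt P (hP ▸ inf_le_left) ⟨x, hx, fun h => hx' ((mP x).1 h).2⟩)
      fun b hb v hv => by
        obtain ⟨h1, h3⟩ := (mP v).1 hv
        exact (mP _).2 ⟨hS b hb v h1, by rw [hcomm a ha b hb, h3]⟩
    obtain ⟨T2, hT2, o2, s2⟩ := ih M (lt M (hM ▸ inf_le_left) ⟨y, hy, fun h => hy' ((mM y).1 h).2⟩)
      fun b hb v hv => by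
        obtain ⟨h1, h3⟩ := (mM v).1 hv
        exact (mM _).2 ⟨hS b hb v h1, by rw [hcomm a ha b hb, h3, map_neg]⟩
    have hcross : ∀ u ∈ P, ∀ w ∈ M, QuadraticMap.polar Q u w = 0 := by
      intro u hu w hw
      have e : QuadraticMap.polar Q u (-w) = QuadraticMap.polar Q u w := by
        conv_rhs => simp only [QuadraticMap.polar]
        rw [← hiso a ha (u + w), ← hiso a ha u, ← hiso a ha w, map_add, ((mP u).1 hu).2, ((mM w).1 hw).2]
        rfl
      rw [QuadraticMap.polar_neg_right] at e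
      exact (mul_eq_zero.1 (show (2 : F) * QuadraticMap.polar Q u w = 0 by linear_combination -e)).resolve_left h2
    refine ⟨T1 ∪ T2, ?_, ?_, fun v hv => ?_⟩
    · rintro z (hz | hz)
      · exact ⟨(hT1 hz).1, ((mP z).1 (hT1 hz).2).1⟩
      · exact ⟨(hT2 hz).1, ((mM z).1 (hT2 hz).2).1⟩
    · refine (Set.pairwise_union).2 ⟨o1, o2, fun u hu w hw _ => ⟨hcross u (hT1 hu).2 w (hT2 hw).2, ?_⟩⟩
      rw [QuadraticMap.polar_comm]
      exact hcross u (hT1 hu).2 w (hT2 hw).2
    · obtain ⟨e, e1, e2⟩ := split_mem h2 (hinv a ha) v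
      rw [e]
      exact add_mem
        (Submodule.span_mono Set.subset_union_left
          (s1 ((mP _).2 ⟨W.smul_mem _ (W.add_mem hv (hS a ha v hv)), e1⟩)))
        (Submodule.span_mono Set.subset_union_right
          (s2 ((mM _).2 ⟨W.smul_mem _ (W.sub_mem hv (hS a ha v hv)), e2⟩)))

include hQ

omit [Fintype F] in
/-- An orthogonal common eigenbasis. -/
theorem exists_orth_eig (S : Set ((ι → F) →ₗ[F] (ι → F))) (hinv : ∀ a ∈ S, ∀ v, a (a v) = v)
    (hcomm : ∀ a ∈ S, ∀ b ∈ S, ∀ v, a (b v) = b (a v)) (hiso : ∀ a ∈ S, ∀ v, Q (a v) = Q v) :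
    ∃ v : Fin (Fintype.card ι) → ι → F, IsOrth Q v ∧ ∀ i, v i ∈ eigVecs S := by
  obtain ⟨T, hT, ho, hs⟩ := span_orth_eig h2 S hinv hcomm hiso _ ⊤ le_rfl fun _ _ _ _ => Submodule.mem_top
  let T' := T \ {(0 : ι → F)}
  have hspan : ⊤ ≤ Submodule.span F T' := by rwa [Submodule.span_sdiff_singleton_zero]
  have hne : ∀ u ∈ T', Q u ≠ 0 := by
    intro u hu h0
    refine hu.2 (hQ.1 u fun w => ?_)
    have : w ∈ Submodule.span F T := hs Submodule.mem_top
    induction this using Submodule.span_induction with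
    | mem z hz =>
      by_cases e : u = z
      · rw [← e, QuadraticMap.polarBilin_apply_apply, polar_self', h0, mul_zero]
      · exact ho hu.1 hz e
    | zero => exact map_zero _
    | add z z' _ _ h1 h3 => rw [map_add, h1, h3, add_zero]
    | smul c z _ h1 => rw [map_smul, h1, smul_zero]
  have hor : IsOrth Q (fun u : T' => (u : ι → F)) :=
    ⟨fun u w huw => ho u.2.1 w.2.1 fun e => huw (Subtype.ext e), fun u => hne _ u.2,
      by rw [Subtype.range_coe]; exact hspan⟩
  haveI : Fintype T' := FiniteDimensional.fintypeBasisIndex (hor.basis h2)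
  let e := (Fintype.equivFinOfCardEq (hor.card h2)).symm
  refine ⟨fun i => (e i : ι → F), ⟨fun i j hij => hor.orth _ _ (e.injective.ne hij), fun i => hor.ne _, ?_⟩,
    fun i => (hT (e i).2.1).1⟩
  refine hor.span.trans (Submodule.span_mono ?_)
  rintro _ ⟨u, rfl⟩
  exact ⟨e.symm u, by simp⟩

end Basis

/-! ### The diagonal subgroup of an orthogonal basis -/

section Diag

variable {κ : Type*} [Fintype κ] {v : κ → ι → F}

include h2

omit [Fintype F] in
theorem exists_diag (h : IsOrth Q v) : ∃ ψ : (κ → ℤˣ) →* Cfsg.isometryGroup F ⇑Q,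
    Function.Injective ψ ∧ ∀ s i, (oEquiv Q (ψ s)).1 (v i) = ((s i : ℤ) : F) • v i := by
  classical
  let b := h.basis h2
  let M : (κ → ℤˣ) → ((ι → F) →ₗ[F] (ι → F)) := fun s =>
    b.constr F fun i => ((s i : ℤ) : F) • v i
  have hM : ∀ s i, M s (v i) = ((s i : ℤ) : F) • v i := fun s i => by
    conv_lhs => rw [← h.basis_apply h2 i]
    exact b.constr_basis F _ i
  have hone : M 1 = LinearMap.id := b.ext fun i => by
    show M 1 (h.basis h2 i) = h.basis h2 i
    rw [h.basis_apply h2, hM]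
    simp
  have hmul : ∀ s t, M (s * t) = (M s).comp (M t) := fun s t => b.ext fun i => by
    show M (s * t) (h.basis h2 i) = M s (M t (h.basis h2 i))
    rw [h.basis_apply h2, hM, hM, map_smul, hM, smul_smul, Pi.mul_apply, Units.val_mul, Int.cast_mul,
      mul_comm]
  have hiso : ∀ s x, Q (M s x) = Q x := by
    intro s x
    have e : (QuadraticMap.polarBilin Q).compl₁₂ (M s) (M s) = QuadraticMap.polarBilin Q := by
      refine LinearMap.ext_basis b b fun i j => ?_
      show QuadraticMap.polar Q (M s (h.basis h2 i)) (M s (h.basis h2 j)) =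
        QuadraticMap.polar Q (h.basis h2 i) (h.basis h2 j)
      rw [h.basis_apply h2, h.basis_apply h2, hM, hM, QuadraticMap.polar_smul_left,
        QuadraticMap.polar_smul_right, smul_eq_mul, smul_eq_mul]
      by_cases hij : i = j
      · subst hij
        rcases Int.units_eq_one_or (s i) with e | e <;> simp [e]
      · simp [h.orth i j hij]
    have e' : QuadraticMap.polar Q (M s x) (M s x) = QuadraticMap.polar Q x x :=
      congrArg (fun B : LinearMap.BilinForm F (ι → F) => B x x) e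
    rw [polar_self', polar_self'] at e'
    exact mul_left_cancel₀ h2 e'
  let L : (κ → ℤˣ) →* oGroup Q :=
    { toFun := fun s => ⟨LinearEquiv.ofLinearMap (M s) (M s⁻¹) (by rw [← hmul, mul_inv_cancel, hone])
        (by rw [← hmul, inv_mul_cancel, hone]), hiso s⟩
      map_one' := Subtype.ext (LinearEquiv.ext fun x => by
        show M 1 x = x
        rw [hone]; rfl)
      map_mul' := fun s t => Subtype.ext (LinearEquiv.ext fun x => by
        show M (s * t) x = M s (M t x)
        rw [hmul]; rfl) }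
  have hL : ∀ s i, (oEquiv Q ((oEquiv Q).symm (L s))).1 (v i) = ((s i : ℤ) : F) • v i := fun s i => by
    rw [MulEquiv.apply_symm_apply]; exact hM s i
  refine ⟨(oEquiv Q).symm.toMonoidHom.comp L, fun s t e => funext fun i => ?_, hL⟩
  have e' : L s = L t := (oEquiv Q).symm.injective e
  have e3 : ((s i : ℤ) : F) • v i = ((t i : ℤ) : F) • v i := by
    rw [← hM, ← hM]; exact congrArg (fun g : oGroup Q => g.1 (v i)) e'
  have e4 := smul_left_injective F ((h.indep h2).ne_zero i) e3
  rcases Int.units_eq_one_or (s i) with a | a <;> rcases Int.units_eq_one_or (t i) with c | c <;>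
    simp only [a, c] at e4 ⊢
  · norm_num at e4; exact absurd (show (2 : F) = 0 by linear_combination e4) h2
  · norm_num at e4; exact absurd (show (2 : F) = 0 by linear_combination -e4) h2

/-- The two characters on the sign group. -/
noncomputable def signChar (v : κ → ι → F) : (κ → ℤˣ) →* ℤˣ × ℤˣ :=
  MonoidHom.prod
    { toFun := fun s => ∏ i, s i, map_one' := by simp, map_mul' := fun a b => by simp [Finset.prod_mul_distrib] }
    { toFun := fun s => ∏ i, if cls (Q (v i)) = 1 then 1 else s i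
      map_one' := by simp
      map_mul' := fun a b => by
        rw [← Finset.prod_mul_distrib]
        exact Finset.prod_congr rfl fun i _ => by split_ifs <;> simp }

include hQ

theorem mem_omega_diag (h : IsOrth Q v) {ψ : (κ → ℤˣ) →* Cfsg.isometryGroup F ⇑Q}
    (hψ : ∀ s i, (oEquiv Q (ψ s)).1 (v i) = ((s i : ℤ) : F) • v i) (s : κ → ℤˣ) :
    ψ s ∈ Cfsg.Omega F ⇑Q ↔ signChar (Q := Q) v s = 1 := by
  classical
  have hexc : Fintype.card F ≠ 2 ∨ Fintype.card ι ≠ 4 := Or.inl (Spinor.card_ne_two h2)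
  have hsingle : ∀ i, ψ (Pi.mulSingle i (-1)) = OrthRows.rf Q (v i) (h.ne i) := by
    intro i
    refine (oEquiv Q).injective (Subtype.ext (LinearEquiv.toLinearMap_injective ((h.basis h2).ext fun j => ?_)))
    show (oEquiv Q (ψ _)).1 (h.basis h2 j) = (oEquiv Q (OrthRows.rf Q (v i) (h.ne i))).1 (h.basis h2 j)
    rw [h.basis_apply h2, hψ, OrthRows.rf, MulEquiv.apply_symm_apply]
    by_cases hij : i = j
    · subst hij
      rw [show (oRefl Q (v i) (h.ne i)).1 = refl Q (v i) (h.ne i) from rfl, refl_self]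
      simp
    · rw [show (oRefl Q (v i) (h.ne i)).1 = refl Q (v i) (h.ne i) from rfl,
        refl_fix Q _ (h.orth j i (Ne.symm hij))]
      simp [Pi.mulSingle_eq_of_ne (Ne.symm hij)]
  have e : ((OrthRows.dk hQ hexc).prod (OrthRows.sp hQ hexc)).comp ψ = signChar (Q := Q) v := by
    refine MonoidHom.functions_ext _ _ _ fun i u => ?_
    rcases Int.units_eq_one_or u with rfl | rfl
    · rw [show Pi.mulSingle i (1 : ℤˣ) = (1 : κ → ℤˣ) from Pi.mulSingle_one i, map_one, map_one]
    · rw [MonoidHom.comp_apply, hsingle]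
      refine Prod.ext ?_ ?_
      · refine (OrthRows.dk_rf hQ hexc (h.ne i)).trans ?_
        show (-1 : ℤˣ) = ∏ j, (Pi.mulSingle i (-1 : ℤˣ) : κ → ℤˣ) j
        simp [Finset.prod_pi_mulSingle']
      · refine (OrthRows.sp_rf hQ hexc (h.ne i)).trans ?_
        show _ = ∏ j, if cls (Q (v j)) = 1 then (1 : ℤˣ) else (Pi.mulSingle i (-1 : ℤˣ) : κ → ℤˣ) j
        rw [Finset.prod_eq_single i (fun j _ hj => by simp [Pi.mulSingle_eq_of_ne hj]) (by simp)]
        by_cases hs : IsSquare (Q (v i)) <;> simp [cls, hs]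
  rw [OrthRows.mem_omega hQ hexc, ← e, MonoidHom.comp_apply, MonoidHom.prod_apply, Prod.mk_eq_one]

omit hQ in
/-- The range of the characters. -/
theorem card_range_bounds (h : IsOrth Q v) [Nonempty κ] :
    2 ≤ Nat.card (signChar (Q := Q) v).range ∧ Nat.card (signChar (Q := Q) v).range ≤ 4 ∧
      ((∀ i, cls (Q (v i)) = 1) ∨ (∀ i, cls (Q (v i)) ≠ 1) → Nat.card (signChar (Q := Q) v).range ≤ 2) ∧
      ((∃ i, cls (Q (v i)) = 1) → (∃ i, cls (Q (v i)) ≠ 1) → 4 ≤ Nat.card (signChar (Q := Q) v).range) := by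
  classical
  have hval : ∀ i, signChar (Q := Q) v (Pi.mulSingle i (-1)) =
      (-1, if cls (Q (v i)) = 1 then 1 else -1) := by
    intro i
    refine Prod.ext ?_ ?_
    · show (∏ j, (Pi.mulSingle i (-1 : ℤˣ) : κ → ℤˣ) j) = -1
      simp [Finset.prod_pi_mulSingle']
    · show (∏ j, if cls (Q (v j)) = 1 then (1 : ℤˣ) else (Pi.mulSingle i (-1 : ℤˣ) : κ → ℤˣ) j) = _
      rw [Finset.prod_eq_single i (fun j _ hj => by simp [Pi.mulSingle_eq_of_ne hj]) (by simp),
        Pi.mulSingle_eq_same]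
  have h4 : Nat.card (ℤˣ × ℤˣ) = 4 := by simp
  obtain ⟨i0⟩ := (inferInstance : Nonempty κ)
  refine ⟨?_, (Subgroup.card_le_card_group _).trans h4.le, ?_, ?_⟩
  · refine Finite.one_lt_card_iff_nontrivial.2 ⟨⟨_, Pi.mulSingle i0 (-1), rfl⟩, 1, fun e => ?_⟩
    have e' := congrArg (fun x : (signChar (Q := Q) v).range => x.1.1) e
    simp only [hval] at e'
    rw [OneMemClass.coe_one, Prod.fst_one] at e'
    exact absurd e' (by decide)
  · intro hall
    refine (Nat.card_le_card_of_injective (fun x : (signChar (Q := Q) v).range => x.1.1) ?_).trans (by simp)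
    rintro ⟨_, s, rfl⟩ ⟨_, t, rfl⟩ e
    refine Subtype.ext (Prod.ext e ?_)
    have key : ∀ s, (signChar (Q := Q) v s).2 = if cls (Q (v i0)) = 1 then 1 else (signChar (Q := Q) v s).1 := by
      intro s
      show (∏ j, if cls (Q (v j)) = 1 then (1 : ℤˣ) else s j) = if _ then (1 : ℤˣ) else ∏ j, s j
      rcases hall with hall | hall
      · simp [hall]
      · simp [hall]
    show (signChar (Q := Q) v s).2 = (signChar (Q := Q) v t).2
    rw [key, key, show (signChar (Q := Q) v s).1 = (signChar (Q := Q) v t).1 from e]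
  · rintro ⟨i, hi⟩ ⟨j, hj⟩
    have h1 : ((-1, 1) : ℤˣ × ℤˣ) ∈ (signChar (Q := Q) v).range := ⟨_, (hval i).trans (by rw [if_pos hi])⟩
    have h3 : ((-1, -1) : ℤˣ × ℤˣ) ∈ (signChar (Q := Q) v).range := ⟨_, (hval j).trans (by rw [if_neg hj])⟩
    rw [show (signChar (Q := Q) v).range = ⊤ from ?_, Subgroup.card_top, h4]
    rw [eq_top_iff]
    rintro ⟨a, b⟩ -
    rcases Int.units_eq_one_or a with rfl | rfl <;> rcases Int.units_eq_one_or b with rfl | rfl
    · exact one_mem _
    · simpa using mul_mem h1 h3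
    · exact h1
    · exact h3

end Diag

end Cfsg.Agent.TwoRank
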