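import Cfsg.Agent.Lib.TwoRank.Orth

/-!
Bounds for the 2-rank of `Ω(Q)` and normal forms of orthogonal bases.
-/

set_option autoImplicit false

namespace Cfsg.Agent.TwoRank

open Cfsg.Agent.FormsLib

variable {F : Type*} [Field F] [Fintype F] {ι : Type} [Fintype ι] [DecidableEq ι]
  {Q : QuadraticForm F (ι → F)} (h2 : (2 : F) ≠ 0) (hQ : (QuadraticMap.polarBilin Q).Nondegenerate)

include h2

/-- Two vectors of one class can be traded for two of any class. -/
theorem exists_same {κ : Type*} [Fintype κ] {c : F} (hc : c ≠ 0) :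
    ∀ (k : ℕ) (v : κ → ι → F), IsOrth Q v →
      (Finset.univ.filter fun i => cls (c * Q (v i)) ≠ 1).card ≤ k →
      ∏ i, cls (c * Q (v i)) = 1 →
      ∃ w : κ → ι → F, IsOrth Q w ∧ ∀ i, cls (c * Q (w i)) = 1 := by
  classical
  intro k
  induction k with
  | zero =>
    intro v hv hk _
    refine ⟨v, hv, fun i => by_contra fun h => ?_⟩
    exact absurd (Finset.card_eq_zero.1 (Nat.le_zero.1 hk)) (Finset.ne_empty_of_mem (a := i) (by simp [h]))
  | succ k ih =>
    intro v hv hk hprod
    by_cases hall : ∀ i, cls (c * Q (v i)) = 1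
    · exact ⟨v, hv, hall⟩
    push Not at hall
    obtain ⟨i, hi⟩ := hall
    obtain ⟨j, hij, hj⟩ : ∃ j, j ≠ i ∧ cls (c * Q (v j)) ≠ 1 := by
      by_contra hcon
      push Not at hcon
      rw [Finset.prod_eq_single i (fun j _ hne => hcon j hne) (by simp)] at hprod
      exact hi hprod
    have hi' := (Int.units_eq_one_or (cls (c * Q (v i)))).resolve_left hi
    have hj' := (Int.units_eq_one_or (cls (c * Q (v j)))).resolve_left hj
    -- solve `x² Qᵢ + y² Qⱼ = c⁻¹`
    obtain ⟨x, y, hxy⟩ : ∃ x y : F, x * x * Q (v i) + y * y * Q (v j) = c⁻¹ := by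
      have hodd : Fintype.card F % 2 = 1 :=
        FiniteField.odd_card_of_char_ne_two (Spinor.ringChar_ne_two h2)
      obtain ⟨x, y, h⟩ := FiniteField.exists_root_sum_quadratic
        (f := Polynomial.C (Q (v i)) * Polynomial.X ^ 2 - Polynomial.C c⁻¹)
        (g := Polynomial.C (Q (v j)) * Polynomial.X ^ 2)
        (by
          rw [Polynomial.degree_sub_C (by rw [Polynomial.degree_C_mul_X_pow 2 (hv.ne i)]; decide),
            Polynomial.degree_C_mul_X_pow 2 (hv.ne i)]
          rfl)
        (Polynomial.degree_C_mul_X_pow 2 (hv.ne j)) hodd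
      refine ⟨x, y, ?_⟩
      simp at h
      linear_combination h
    have hd : x * x * Q (v i) + y * y * Q (v j) ≠ 0 := hxy ▸ inv_ne_zero hc
    obtain ⟨p, hp⟩ : ∃ p, p = x • v i + y • v j := ⟨_, rfl⟩
    obtain ⟨r, hr⟩ : ∃ r, r = (-(y * Q (v j))) • v i + (x * Q (v i)) • v j := ⟨_, rfl⟩
    have hQp : Q p = c⁻¹ := by
      rw [hp, quad_add, QuadraticMap.map_smul, QuadraticMap.map_smul, QuadraticMap.polar_smul_left,
        QuadraticMap.polar_smul_right, hv.orth i j (Ne.symm hij), ← hxy]
      simp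
    have hQr : Q r = Q (v i) * Q (v j) * c⁻¹ := by
      rw [hr, quad_add, QuadraticMap.map_smul, QuadraticMap.map_smul, QuadraticMap.polar_smul_left,
        QuadraticMap.polar_smul_right, hv.orth i j (Ne.symm hij), ← hxy]
      simp
      ring
    have hpr : QuadraticMap.polar Q p r = 0 := by
      rw [hp, hr]
      simp only [QuadraticMap.polar_add_left, QuadraticMap.polar_add_right, QuadraticMap.polar_smul_left,
        QuadraticMap.polar_smul_right, polar_self', smul_eq_mul, hv.orth i j (Ne.symm hij),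
        hv.orth j i hij]
      ring
    have hperp : ∀ l, l ≠ i → l ≠ j →
        QuadraticMap.polar Q p (v l) = 0 ∧ QuadraticMap.polar Q r (v l) = 0 := by
      intro l hli hlj
      rw [hp, hr]
      constructor <;>
        simp [QuadraticMap.polar_add_left, QuadraticMap.polar_smul_left, hv.orth i l (Ne.symm hli),
          hv.orth j l (Ne.symm hlj)]
    let w : κ → ι → F := Function.update (Function.update v i p) j r
    have wi : w i = p := by simp [w, Function.update_of_ne (Ne.symm hij)]
    have wj : w j = r := by simp [w]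
    have wl : ∀ l, l ≠ i → l ≠ j → w l = v l := fun l h1 h3 => by simp [w, h1, h3]
    have hrne : Q r ≠ 0 := by
      rw [hQr]; exact mul_ne_zero (mul_ne_zero (hv.ne i) (hv.ne j)) (inv_ne_zero hc)
    have hw : IsOrth Q w := by
      refine ⟨fun a b hab => ?_, fun a => ?_, hv.span.trans (Submodule.span_le.2 ?_)⟩
      · rcases eq_or_ne a i with rfl | hai
        · rcases eq_or_ne b j with rfl | hbj
          · rw [wi, wj, hpr]
          · rw [wi, wl b (Ne.symm hab) hbj, (hperp b (Ne.symm hab) hbj).1]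
        rcases eq_or_ne a j with rfl | haj
        · rcases eq_or_ne b i with rfl | hbi
          · rw [wi, wj, QuadraticMap.polar_comm, hpr]
          · rw [wj, wl b hbi (Ne.symm hab), (hperp b hbi (Ne.symm hab)).2]
        rw [wl a hai haj, QuadraticMap.polar_comm]
        rcases eq_or_ne b i with rfl | hbi
        · rw [wi, (hperp a hai haj).1]
        rcases eq_or_ne b j with rfl | hbj
        · rw [wj, (hperp a hai haj).2]
        rw [wl b hbi hbj, hv.orth b a (Ne.symm hab)]
      · rcases eq_or_ne a i with rfl | hai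
        · rw [wi, hQp]; exact inv_ne_zero hc
        rcases eq_or_ne a j with rfl | haj
        · rwa [wj]
        rw [wl a hai haj]; exact hv.ne a
      · have hp' : p ∈ Submodule.span F (Set.range w) := wi ▸ Submodule.subset_span ⟨i, rfl⟩
        have hr' : r ∈ Submodule.span F (Set.range w) := wj ▸ Submodule.subset_span ⟨j, rfl⟩
        rintro _ ⟨l, rfl⟩
        show v l ∈ _
        have key : ∀ u : ι → F, (x * x * Q (v i) + y * y * Q (v j)) • u ∈ Submodule.span F (Set.range w) →
            u ∈ Submodule.span F (Set.range w) := fun u hu => (Submodule.smul_mem_iff _ hd).1 hu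
        rcases eq_or_ne l i with rfl | hli
        · refine key _ ?_
          rw [show (x * x * Q (v l) + y * y * Q (v j)) • v l = (x * Q (v l)) • p + (-y) • r by rw [hp, hr]; module]
          exact add_mem (Submodule.smul_mem _ _ hp') (Submodule.smul_mem _ _ hr')
        rcases eq_or_ne l j with rfl | hlj
        · refine key _ ?_
          rw [show (x * x * Q (v i) + y * y * Q (v l)) • v l = (y * Q (v l)) • p + x • r by rw [hp, hr]; module]
          exact add_mem (Submodule.smul_mem _ _ hp') (Submodule.smul_mem _ _ hr')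
        exact Submodule.subset_span ⟨l, wl l hli hlj⟩
    have ci : cls (c * Q (w i)) = 1 := by rw [wi, hQp, mul_inv_cancel₀ hc, cls_one]
    have cj : cls (c * Q (w j)) = 1 := by
      rw [wj, hQr, show c * (Q (v i) * Q (v j) * c⁻¹) = (c * Q (v i)) * (c * Q (v j)) * (c⁻¹ * c⁻¹) by
        field_simp, cls_mul (mul_ne_zero (mul_ne_zero hc (hv.ne i)) (mul_ne_zero hc (hv.ne j)))
        (mul_ne_zero (inv_ne_zero hc) (inv_ne_zero hc)), cls_mul (mul_ne_zero hc (hv.ne i))
        (mul_ne_zero hc (hv.ne j)), cls_sq, hi', hj']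
      decide
    refine ih w hw ?_ ?_
    · refine Nat.lt_succ_iff.1 (lt_of_lt_of_le (Finset.card_lt_card ⟨fun l hl => ?_, fun hsub => ?_⟩) hk)
      · rw [Finset.mem_filter] at hl ⊢
        rcases eq_or_ne l i with rfl | hli
        · exact absurd ci hl.2
        rcases eq_or_ne l j with rfl | hlj
        · exact absurd cj hl.2
        exact ⟨hl.1, by rw [← wl l hli hlj]; exact hl.2⟩
      · exact (Finset.mem_filter.1 (hsub (Finset.mem_filter.2 ⟨Finset.mem_univ i, hi⟩))).2 ci
    · rw [← hprod, ← Finset.prod_erase_mul _ _ (Finset.mem_univ i), ← Finset.prod_erase_mul (Finset.univ)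
        (fun l => cls (c * Q (v l))) (Finset.mem_univ i),
        ← Finset.prod_erase_mul _ _ (Finset.mem_erase.2 ⟨hij, Finset.mem_univ j⟩),
        ← Finset.prod_erase_mul (Finset.univ.erase i) (fun l => cls (c * Q (v l)))
          (Finset.mem_erase.2 ⟨hij, Finset.mem_univ j⟩)]
      simp only [ci, cj, hi', hj', mul_one, mul_assoc]
      rw [show ((-1 : ℤˣ) * -1) = 1 from rfl, mul_one]
      refine Finset.prod_congr rfl fun l hl => ?_
      simp only [Finset.mem_erase] at hl
      rw [wl l hl.2.1 hl.1]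

include hQ

/-- A basis gives a lower bound. -/
theorem pRankAtLeast_omega {κ : Type*} [Fintype κ] [Nonempty κ] {v : κ → ι → F} (hv : IsOrth Q v)
    (k : ℕ) (hk : 2 ^ k * Nat.card (signChar (Q := Q) v).range ≤ 2 ^ Fintype.card κ) :
    Cfsg.PRankAtLeast 2 k (Cfsg.Omega F ⇑Q) := by
  classical
  obtain ⟨ψ, hψ, hact⟩ := exists_diag h2 hv
  let φ : (signChar (Q := Q) v).ker →* Cfsg.Omega F ⇑Q :=
    (ψ.comp (Subgroup.subtype _)).codRestrict _ fun s => (mem_omega_diag h2 hQ hv hact s.1).2 s.2
  have hinj : Function.Injective φ := fun a b e => Subtype.ext (hψ (congrArg Subtype.val e))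
  refine ⟨φ.range, ⟨⟨?_⟩⟩, ?_, ?_⟩
  · rintro ⟨_, a, rfl⟩ ⟨_, b, rfl⟩
    exact Subtype.ext (by show φ a * φ b = φ b * φ a; rw [← map_mul, ← map_mul, mul_comm])
  · rintro _ ⟨a, rfl⟩
    rw [← map_pow, show a ^ 2 = 1 from Subtype.ext (funext fun i => Int.units_sq _), map_one]
  · rw [← Nat.card_congr (MonoidHom.ofInjective hinj).toEquiv]
    have h1 := Subgroup.card_mul_index (signChar (Q := Q) v).ker
    rw [card_signs, Subgroup.index_ker] at h1
    exact Nat.le_of_mul_le_mul_right (h1 ▸ hk) Nat.card_pos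

/-- Every elementary abelian subgroup is diagonal in some orthogonal basis. -/
theorem pRankLE_omega [Nonempty ι] (k : ℕ)
    (hk : ∀ v : Fin (Fintype.card ι) → ι → F, IsOrth Q v →
      2 ^ Fintype.card ι ≤ 2 ^ k * Nat.card (signChar (Q := Q) v).range) :
    Cfsg.PRankLE 2 k (Cfsg.Omega F ⇑Q) := by
  classical
  intro A hA h
  let ρ : Cfsg.Omega F ⇑Q →* oGroup Q := (oEquiv Q).toMonoidHom.comp (Subgroup.subtype _)
  have hρ : Function.Injective ρ := (oEquiv Q).injective.comp Subtype.val_injective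
  let S : Set ((ι → F) →ₗ[F] (ι → F)) := Set.range fun a : A => ((ρ a.1).1 : (ι → F) →ₗ[F] (ι → F))
  obtain ⟨v, hv, heig⟩ := exists_orth_eig h2 hQ S
    (by
      rintro _ ⟨a, rfl⟩ u
      show (ρ a.1 * ρ a.1).1 u = u
      rw [← map_mul, ← pow_two, h a.1 a.2, map_one]
      rfl)
    (by
      rintro _ ⟨a, rfl⟩ _ ⟨c, rfl⟩ u
      show (ρ a.1 * ρ c.1).1 u = (ρ c.1 * ρ a.1).1 u
      rw [← map_mul, ← map_mul, show a.1 * c.1 = c.1 * a.1 from congrArg Subtype.val (hA.is_comm.comm a c)])
    (by rintro _ ⟨a, rfl⟩ u; exact (ρ a.1).2 u)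
  obtain ⟨ψ, hψ, hact⟩ := exists_diag h2 hv
  have hmem : ∀ a : A, ∃ s, signChar (Q := Q) v s = 1 ∧ ψ s = (a.1 : Cfsg.isometryGroup F ⇑Q) := by
    intro a
    have hs : ∀ i, ∃ u : ℤˣ, (ρ a.1).1 (v i) = ((u : ℤ) : F) • v i := fun i => by
      rcases heig i _ ⟨a, rfl⟩ with e | e
      · exact ⟨1, by simpa using e⟩
      · exact ⟨-1, by simpa using e⟩
    choose s hs using hs
    have hψs : ψ s = (a.1 : Cfsg.isometryGroup F ⇑Q) := by
      refine (oEquiv Q).injective (Subtype.ext (LinearEquiv.toLinearMap_injective ((hv.basis h2).ext fun i => ?_)))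
      show (oEquiv Q (ψ s)).1 (hv.basis h2 i) = (ρ a.1).1 (hv.basis h2 i)
      rw [hv.basis_apply h2, hact, hs]
    exact ⟨s, (mem_omega_diag h2 hQ hv hact s).1 (hψs ▸ a.1.2), hψs⟩
  choose s hs1 hs2 using hmem
  have hinj : Function.Injective fun a : A => (⟨s a, hs1 a⟩ : (signChar (Q := Q) v).ker) := by
    intro a c e
    refine Subtype.ext (Subtype.ext ?_)
    have e' : s a = s c := congrArg Subtype.val e
    rw [← hs2 a, ← hs2 c, e']
  have h1 := Subgroup.card_mul_index (signChar (Q := Q) v).ker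
  rw [card_signs, Subgroup.index_ker, Fintype.card_fin] at h1
  have h3 := Nat.card_le_card_of_injective _ hinj
  exact h3.trans (Nat.le_of_mul_le_mul_right (h1 ▸ hk v hv) Nat.card_pos)

/-- The rank is `d - 1` when the discriminant class allows all values in one class. -/
theorem rank_square {κ : Type*} [Fintype κ] [Nonempty κ] {v : κ → ι → F} (hv : IsOrth Q v)
    {c : F} (hc : c ≠ 0) (hcls : ∀ i, cls (c * Q (v i)) = 1) :
    Cfsg.PRankAtLeast 2 (Fintype.card ι - 1) (Cfsg.Omega F ⇑Q) ∧
      Cfsg.PRankLE 2 (Fintype.card ι - 1) (Cfsg.Omega F ⇑Q) := by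
  have hd := hv.card h2
  haveI : Nonempty ι := Fintype.card_pos_iff.1 (hd ▸ Fintype.card_pos)
  obtain ⟨d, hd'⟩ : ∃ d, Fintype.card ι = d + 1 := ⟨Fintype.card ι - 1, by have := Fintype.card_pos (α := ι); omega⟩
  constructor
  · refine pRankAtLeast_omega h2 hQ hv _ ?_
    have hall : (∀ i, cls (Q (v i)) = 1) ∨ ∀ i, cls (Q (v i)) ≠ 1 := by
      rcases Int.units_eq_one_or (cls c) with e | e
      · exact Or.inl fun i => by simpa [cls_mul hc (hv.ne i), e] using hcls i
      · refine Or.inr fun i h => ?_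
        have := hcls i
        rw [cls_mul hc (hv.ne i), e, h] at this
        exact absurd this (by decide)
    rw [hd, hd', Nat.add_sub_cancel, pow_succ]
    exact Nat.mul_le_mul_left _ ((card_range_bounds h2 hv).2.2.1 hall)
  · refine pRankLE_omega h2 hQ _ fun w hw => ?_
    haveI : Nonempty (Fin (Fintype.card ι)) := ⟨⟨0, by omega⟩⟩
    have := (card_range_bounds h2 hw).1
    generalize Nat.card (signChar (Q := Q) w).range = N at this ⊢
    rw [hd', Nat.add_sub_cancel, pow_succ]
    exact Nat.mul_le_mul_left _ this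

/-- The rank is `d - 2` for even `d` and a non-square discriminant class. -/
theorem rank_nonsquare {κ : Type*} [Fintype κ] [Nonempty κ] {v : κ → ι → F} (hv : IsOrth Q v)
    (heven : Even (Fintype.card ι)) (hdisc : cls (∏ i, Q (v i)) ≠ 1) :
    Cfsg.PRankAtLeast 2 (Fintype.card ι - 2) (Cfsg.Omega F ⇑Q) ∧
      Cfsg.PRankLE 2 (Fintype.card ι - 2) (Cfsg.Omega F ⇑Q) := by
  have hd := hv.card h2
  haveI : Nonempty ι := Fintype.card_pos_iff.1 (hd ▸ Fintype.card_pos)
  obtain ⟨d, hd'⟩ : ∃ d, Fintype.card ι = d + 2 := ⟨Fintype.card ι - 2, by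
    obtain ⟨k, hk⟩ := heven
    have := Fintype.card_pos (α := ι); omega⟩
  constructor
  · refine pRankAtLeast_omega h2 hQ hv _ ?_
    rw [hd, hd', Nat.add_sub_cancel, pow_add]
    exact Nat.mul_le_mul_left _ (card_range_bounds h2 hv).2.1
  · refine pRankLE_omega h2 hQ _ fun w hw => ?_
    haveI : Nonempty (Fin (Fintype.card ι)) := ⟨⟨0, by omega⟩⟩
    suffices h4 : 4 ≤ Nat.card (signChar (Q := Q) w).range by
      generalize Nat.card (signChar (Q := Q) w).range = N at h4 ⊢
      rw [hd', Nat.add_sub_cancel, pow_add]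
      exact Nat.mul_le_mul_left _ h4
    refine (card_range_bounds h2 hw).2.2.2 ?_ ?_
    · by_contra hc
      push Not at hc
      refine hdisc ?_
      rw [disc_eq h2 hv hw, cls_prod _ (fun i _ => hw.ne i), Finset.prod_congr rfl fun i _ =>
        (Int.units_eq_one_or (cls (Q (w i)))).resolve_left (hc i), Finset.prod_const, Finset.card_univ,
        Fintype.card_fin, heven.neg_one_pow]
    · by_contra hc
      push Not at hc
      exact hdisc (by rw [disc_eq h2 hv hw, cls_prod _ (fun i _ => hw.ne i),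
        Finset.prod_congr rfl fun i _ => hc i, Finset.prod_const_one])

end Cfsg.Agent.TwoRank
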